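import Cfsg.Agent.Lib.ChevOdd.Cent
import Cfsg.Agent.Lib.Lie.CovExtension
import Cfsg.Agent.Lib.Lie.CovMain
import Cfsg.Agent.Lib.SL2Pres.AnyField
import Cfsg.Agent.Lib.SLPres.Main

/-!
# Root subgroups `SL₂` and pairs of commuting ones
-/

set_option autoImplicit false

namespace Cfsg.Agent.ChevOdd

open Cfsg.Lie Cfsg.Agent.Chev Cfsg.Agent.Chev.Tab
open Matrix (SpecialLinearGroup)
open SL2Pres (up low diagS)

variable {T : Tab} {K : List (List ℕ)} {W : List (ℕ × ℕ × ℕ)} {F : Type*} [Field F]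

local notation "SL" => SpecialLinearGroup (Fin 2) F

theorem diagS_eq (u : Fˣ) : diagS F u = (up (u : F) * low (-(u : F)⁻¹) * up (u : F)) *
    (up (-1) * low (-(-1)⁻¹) * up (-1)) :=
  Subtype.ext (by simp [SL2Pres.up_val, SL2Pres.low_val, SL2Pres.diagS_val])

theorem diagS_neg_one : diagS F (-1) * diagS F (-1) = (1 : SL) := by
  rw [← map_mul, neg_one_mul, _root_.neg_neg, map_one]

/-- An element commuting with both root groups is `±1`. -/
theorem eq_one_or_neg {γ : SL} (h1 : γ * up 1 = up 1 * γ) (h2 : γ * low 1 = low 1 * γ) :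
    γ = 1 ∨ γ = diagS F (-1) := by
  obtain ⟨p, q, r, s, hv⟩ : ∃ p q r s, γ.1 = !![p, q; r, s] := ⟨_, _, _, _, Matrix.eta_fin_two _⟩
  have e1 : γ.1 * (up (1 : F)).1 = (up (1 : F)).1 * γ.1 := congrArg Subtype.val h1
  have e2 : γ.1 * (low (1 : F)).1 = (low (1 : F)).1 * γ.1 := congrArg Subtype.val h2
  have hdet := γ.2
  rw [hv, SL2Pres.up_val, Matrix.mul_fin_two, Matrix.mul_fin_two] at e1
  rw [hv, SL2Pres.low_val, Matrix.mul_fin_two, Matrix.mul_fin_two] at e2
  rw [hv, Matrix.det_fin_two_of] at hdet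
  simp at e1 e2
  have hr : r = 0 := e1.2
  have hq : q = 0 := e2.1
  have hps : p = s := by linear_combination e1.1.2
  rw [hr, hq, mul_zero, sub_zero, ← hps, mul_self_eq_one_iff] at hdet
  rcases hdet with h | h
  · left
    apply Subtype.ext
    rw [hv, hr, hq, ← hps, h]
    simp [Matrix.one_fin_two]
  · right
    apply Subtype.ext
    rw [hv, hr, hq, ← hps, h, SL2Pres.diagS_val]
    simp [inv_neg]

/-- A homomorphism out of `SL₂` is injective when opposite root images meet trivially and `-1` survives. -/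
theorem sl2_injective {G : Type*} [Group G] (φ : SL →* G)
    (h : ∀ z c : F, φ (low c) = φ (up z) → c = 0) (hm : φ (diagS F (-1)) ≠ 1) :
    Function.Injective φ := by
  have hc : ∀ γ : SL, φ γ = 1 → γ.1 1 0 = 0 := by
    intro γ hγ
    by_contra hc
    obtain ⟨a, b, c, d, hγv⟩ : ∃ a b c d, γ.1 = !![a, b; c, d] := ⟨_, _, _, _, Matrix.eta_fin_two _⟩
    rw [hγv] at hc
    change c ≠ 0 at hc
    have hdet : a * d - b * c = 1 := by
      have := γ.2; rwa [hγv, Matrix.det_fin_two_of] at this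
    have hdec : γ = up ((a - 1) / c) * low c * up ((d - 1) / c) := by
      apply Subtype.ext
      show γ.1 = (up ((a - 1) / c)).1 * (low c).1 * (up ((d - 1) / c)).1
      rw [hγv, SL2Pres.up_val, SL2Pres.low_val,
        SL2Pres.up_val, Matrix.mul_fin_two, Matrix.mul_fin_two]
      ext i j
      fin_cases i <;> fin_cases j <;> simp <;> field_simp
      all_goals first | linear_combination hdet | linear_combination -hdet | ring
    rw [hdec, map_mul, map_mul, mul_assoc, mul_eq_one_iff_inv_eq] at hγ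
    have hγ2 := eq_mul_inv_of_mul_eq hγ.symm
    refine hc (h (-((a - 1) / c) + -((d - 1) / c)) c ?_)
    rw [hγ2, ← map_inv, ← map_inv, ← map_mul]
    refine congrArg φ ?_
    have hup : ∀ x : F, (up x)⁻¹ = up (-x) := fun x => inv_eq_of_mul_eq_one_right (by
      rw [SL2Pres.up_add, add_neg_cancel, SL2Pres.up_zero])
    rw [hup, hup, SL2Pres.up_add]
  rw [← MonoidHom.ker_eq_bot_iff, Subgroup.eq_bot_iff_forall]
  intro γ hγ
  have hγ' : φ γ = 1 := hγ
  obtain ⟨a, b, c, d, hγv⟩ : ∃ a b c d, γ.1 = !![a, b; c, d] := ⟨_, _, _, _, Matrix.eta_fin_two _⟩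
  have hc0 : c = 0 := by have := hc γ hγ'; rwa [hγv] at this
  have hx : ∀ x : F, (low x * γ * low (-x)).1 1 0 = 0 := fun x => by
    refine hc _ ?_
    rw [map_mul, map_mul, hγ', mul_one, ← map_mul]
    rw [show low x * low (-x) = (1 : SL) from Subtype.ext (by
      simp [SL2Pres.low_val, Matrix.one_fin_two]), map_one]
  have hdet : a * d = 1 := by
    have := γ.2; rw [hγv, Matrix.det_fin_two_of, hc0] at this; simpa using this
  have h1 := hx 1
  have h2 := hx (-1)
  simp [SL2Pres.low_val, hγv, hc0] at h1 h2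
  by_cases h20 : (2 : F) = 0
  · have : (-1 : Fˣ) = 1 := Units.ext (by simp; linear_combination -h20)
    exact absurd (by rw [this, map_one, map_one]) hm
  have hb : b = 0 := by
    have : (2 : F) * b = 0 := by first | linear_combination h1 + h2 | linear_combination -h1 - h2
    exact (mul_eq_zero.1 this).resolve_left h20
  have had : a = d := by first | linear_combination h1 + hb | linear_combination -h1 - hb
  rw [← had, mul_self_eq_one_iff] at hdet
  rcases hdet with h | h
  · apply Subtype.ext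
    rw [hγv, hb, hc0, ← had, h]
    simp [Matrix.one_fin_two]
  · refine absurd ?_ hm
    rw [← hγ']
    refine congrArg φ (Subtype.ext ?_)
    rw [hγv, hb, hc0, ← had, h, SL2Pres.diagS_val]
    simp [inv_neg]

/-- The `SL₂` of a root. -/
theorem exists_rootHom (g : T.GoodW K W) {r : ℕ} (hr : r < T.n) (hpos : T.N ≤ r)
    (hm : hE g.toGood r (-1 : F) ≠ 1) :
    ∃ φ : SL →* T.D.group F, Function.Injective φ ∧
      (∀ t, ((φ (up t) : T.D.group F) : GL T.D.Idx F) = xg g.toGood r t) ∧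
      (∀ t, ((φ (low t) : T.D.group F) : GL T.D.Idx F) = xg g.toGood (T.neg r) t) ∧
      ((φ (diagS F (-1)) : T.D.group F) : GL T.D.Idx F) = hE g.toGood r (-1 : F) := by
  have hg := g.toGood
  have hrel : ∀ s < T.n, ∀ t u : F, t ≠ 0 →
      (xg hg s t * xg hg (T.neg s) (-t⁻¹) * xg hg s t) * xg hg s u *
        (xg hg s t * xg hg (T.neg s) (-t⁻¹) * xg hg s t)⁻¹ = xg hg (T.neg s) (-(t⁻¹ ^ 2 * u)) :=
    fun s hs t u ht => by
      have h := congrArg (Tab.Cov.θ0 g.toGoodA F) (Tab.Cov.sn_conj_self g s hs t u ht)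
      simpa [Tab.Cov.sn, Tab.Cov.θ0_sx] using h
  let D : SL2Pres.SData F (GL T.D.Idx F) :=
    { X := xg hg r
      Y := xg hg (T.neg r)
      addX := xg_add hg r
      addY := xg_add hg (T.neg r)
      relX := hrel r hr
      relY := fun t u ht => by
        have h := hrel (T.neg r) (neg_lt hr) t u ht
        rwa [Tab.neg_neg hr] at h }
  obtain ⟨f, hX, hY⟩ := SL2Pres.exists_hom' D (fun s t hs ht =>
    (hE_mul hg hr (Units.mk0 s hs) (Units.mk0 t ht)).symm)
  have hG : ∀ γ, f γ ∈ T.D.group F := fun γ => by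
    have hle : Subgroup.closure (Set.range (up (K := F)) ∪ Set.range (low (K := F))) ≤
        (T.D.group F).comap f := by
      rw [Subgroup.closure_le]
      rintro z (⟨b, rfl⟩ | ⟨b, rfl⟩) <;> simp only [SetLike.mem_coe, Subgroup.mem_comap, hX, hY]
      · exact xg_mem_group hg r b
      · exact xg_mem_group hg (T.neg r) b
    exact hle (SL2Pres.closure_up_low (K := F) ▸ Subgroup.mem_top γ)
  have hd : f (diagS F (-1)) = hE hg r (-1 : F) := by
    rw [diagS_eq]
    simp only [map_mul, hX, hY, hE, nE, Units.val_neg, Units.val_one]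
    rfl
  have hinj : Function.Injective f := by
    refine sl2_injective f (fun z c e => ?_) (hd ▸ hm)
    rw [hX, hY] at e
    have hneg : T.neg r < T.N := (T.neg_lt_N_iff hr).2 hpos
    have h1 : xg hg (T.neg r) c = 1 := borel_inf_neg hg (by
        rw [show xg hg (T.neg r) c = xg hg r z from e]
        exact genS_pos_le_borel hg (fun r hr => hr) (xg_mem_genS hg (S := Set.Ico T.N T.n) ⟨hpos, hr⟩ z))
      (xg_mem_genS hg (S := Set.Iio T.N) hneg c)
    exact xg_injective hg (neg_lt hr) (h1.trans (xg_zero hg _).symm)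
  exact ⟨f.codRestrict _ hG, fun x y e => hinj (congrArg Subtype.val e), hX, hY, hd⟩

/-- Commutation from generators. -/
theorem commute_of_gen {G : Type*} [Group G] (φ ψ : SL →* G)
    (h : ∀ s t : F, Commute (φ (up s)) (ψ (up t)) ∧ Commute (φ (up s)) (ψ (low t)) ∧
      Commute (φ (low s)) (ψ (up t)) ∧ Commute (φ (low s)) (ψ (low t))) (x y : SL) :
    Commute (φ x) (ψ y) := by
  have step : ∀ (χ : SL →* G) (a : G), (∀ t, Commute a (χ (up t))) → (∀ t, Commute a (χ (low t))) →
      ∀ y, Commute a (χ y) := by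
    intro χ a h1 h2 y
    have hle : Subgroup.closure (Set.range (up (K := F)) ∪ Set.range (low (K := F))) ≤
        (Subgroup.centralizer {a}).comap χ := by
      rw [Subgroup.closure_le]
      rintro z (⟨b, rfl⟩ | ⟨b, rfl⟩) <;>
        simp only [SetLike.mem_coe, Subgroup.mem_comap, Subgroup.mem_centralizer_singleton_iff]
      · exact (h1 b).symm.eq
      · exact (h2 b).symm.eq
    exact ((Subgroup.mem_centralizer_singleton_iff.1
      (Subgroup.mem_comap.1 (hle (SL2Pres.closure_up_low (K := F) ▸ Subgroup.mem_top y)))) :).symm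
  refine (step φ (ψ y) (fun s => ?_) (fun s => ?_) x).symm
  · exact (step ψ (φ (up s)) (fun t => (h s t).1) (fun t => (h s t).2.1) y).symm
  · exact (step ψ (φ (low s)) (fun t => (h s t).2.2.1) (fun t => (h s t).2.2.2) y).symm

theorem card_sl_two [Fintype F] : Nat.card SL = Fintype.card F * (Fintype.card F ^ 2 - 1) := by
  have h := SLPres.card_sl_succ (K := F) 1
  have h1 : Nat.card (SpecialLinearGroup (Fin 1) F) = 1 := by
    rw [Nat.card_eq_one_iff_unique]
    refine ⟨⟨fun a b => Subtype.ext ?_⟩, ⟨1⟩⟩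
    have ha := a.2
    have hb := b.2
    rw [Matrix.det_fin_one] at ha hb
    ext i j
    rw [Subsingleton.elim i 0, Subsingleton.elim j 0, ha, hb]
  rw [h1, Nat.card_eq_fintype_card (α := F), pow_one, mul_one] at h
  rw [h, mul_comm]

/-- Two commuting copies of `SL₂` with common central involution. -/
theorem sl2_pair [Fintype F] {G : Type*} [Group G] [Finite G] (φ ψ : SL →* G)
    (hφ : Function.Injective φ) (hψ : Function.Injective ψ) {z : G} (hzφ : φ (diagS F (-1)) = z)
    (hzψ : ψ (diagS F (-1)) = z) (hz : z ≠ 1) (hc : ∀ x y, Commute (φ x) (ψ y)) :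
    ∃ L₁ L₂ : Subgroup G, Nonempty (L₁ ≃* SL) ∧ Nonempty (L₂ ≃* SL) ∧
      (∀ x ∈ L₁, ∀ y ∈ L₂, x * y = y * x) ∧ L₁ ⊓ L₂ = Subgroup.zpowers z ∧
      L₁ ⊔ L₂ ≤ Subgroup.centralizer {z} ∧
      Nat.card ↥(L₁ ⊔ L₂) * 2 = (Fintype.card F * (Fintype.card F ^ 2 - 1)) ^ 2 := by
  let Ψ : SL × SL →* G := MonoidHom.noncommCoprod φ ψ hc
  have hΨ : ∀ x y, Ψ (x, y) = φ x * ψ y := fun x y => rfl
  have hcen : ∀ {x y : SL}, φ x = ψ y → x = 1 ∨ x = diagS F (-1) := by
    intro x y e
    have : ∀ w, x * w = w * x := fun w => hφ (by rw [map_mul, map_mul, e]; exact (hc w y).symm.eq)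
    exact eq_one_or_neg (this _) (this _)
  have hsq : z * z = 1 := by rw [← hzφ, ← map_mul, diagS_neg_one, map_one]
  have hrange : Ψ.range = φ.range ⊔ ψ.range := MonoidHom.noncommCoprod_range φ ψ hc
  have hker : ∀ p, p ∈ Ψ.ker ↔ p = 1 ∨ p = (diagS F (-1), diagS F (-1)) := by
    rintro ⟨x, y⟩
    rw [MonoidHom.mem_ker, hΨ]
    constructor
    · intro e
      have e' : φ x = ψ y⁻¹ := by rw [map_inv]; exact eq_inv_of_mul_eq_one_left e
      rcases hcen e' with rfl | rfl
      · left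
        rw [map_one, one_mul] at e
        rw [hψ (e.trans (map_one ψ).symm)]; rfl
      · right
        rw [hzφ] at e
        have : ψ y = z := by rw [← one_mul (ψ y), ← hsq, mul_assoc, e, mul_one]
        rw [hψ (this.trans hzψ.symm)]
    · rintro (e | e) <;> rw [Prod.ext_iff] at e <;> obtain ⟨rfl, rfl⟩ := e
      · simp
      · rw [hzφ, hzψ, hsq]
  have hne : diagS F (-1) ≠ (1 : SL) := fun e => hz (by rw [← hzφ, e, map_one])
  have hkcard : Nat.card Ψ.ker = 2 := by
    rw [Nat.card_eq_two_iff]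
    refine ⟨⟨1, one_mem _⟩, ⟨(diagS F (-1), diagS F (-1)), (hker _).2 (Or.inr rfl)⟩,
      fun e => hne (congrArg (fun p : Ψ.ker => p.1.1) e).symm, ?_⟩
    ext ⟨p, hp⟩
    rcases (hker p).1 hp with rfl | rfl <;> simp
  refine ⟨φ.range, ψ.range, ⟨(MonoidHom.ofInjective hφ).symm⟩, ⟨(MonoidHom.ofInjective hψ).symm⟩, ?_, ?_, ?_, ?_⟩
  · rintro _ ⟨x, rfl⟩ _ ⟨y, rfl⟩
    exact (hc x y).eq
  · refine le_antisymm ?_ (Subgroup.zpowers_le.2 ⟨⟨_, hzφ⟩, ⟨_, hzψ⟩⟩)
    rintro _ ⟨⟨x, rfl⟩, ⟨y, hy⟩⟩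
    rcases hcen hy.symm with rfl | rfl
    · rw [map_one]; exact one_mem _
    · rw [hzφ]; exact Subgroup.mem_zpowers z
  · refine sup_le ?_ ?_ <;> rintro _ ⟨x, rfl⟩ <;> rw [Subgroup.mem_centralizer_singleton_iff]
    · rw [← hzψ]; exact (hc x _).eq
    · rw [← hzφ]; exact (hc _ x).symm.eq
  · rw [← hrange, ← Subgroup.index_ker, mul_comm]
    calc 2 * Ψ.ker.index = Nat.card (SL × SL) := by rw [← Ψ.ker.card_mul_index, hkcard]
      _ = _ := by rw [Nat.card_prod, card_sl_two, ← sq]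

end Cfsg.Agent.ChevOdd
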