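import Cfsg.Agent.Lib.ChevOdd.Reduce
import Cfsg.Agent.Lib.Lie.BorelTits

/-!
# The centraliser of a torus involution
-/

set_option autoImplicit false

namespace Cfsg.Agent.ChevOdd

open Cfsg.Lie Cfsg.Agent.Chev Cfsg.Agent.Chev.Tab Cfsg.Agent.Chev.Tab.BTi

variable {T : Tab} {K : List (List ℕ)} {F : Type*} [Field F]

/-- The exponent of the weight at `r` of the involution with mask `m`. -/
def par (T : Tab) (m r : ℕ) : ℤ := sumBelow (fun j => bif Nat.testBit m j then T.A j r else 0) T.l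

/-- The root is in the root system of the centraliser. -/
def inH (T : Tab) (m r : ℕ) : Bool := par T m r % 2 == 0

/-- The units of the mask. -/
def sgn (F : Type*) [Field F] (m : ℕ) : ℕ → Fˣ := fun j => bif Nat.testBit m j then -1 else 1

/-- The involution of the mask. -/
noncomputable def hM (T : Tab) (F : Type*) [Field F] (m : ℕ) : GL T.D.Idx F := tor T F (sgn F m)

/-- The positive roots of the centraliser. -/
def posH (T : Tab) (m : ℕ) : Set ℕ := {r | (T.N ≤ r ∧ r < T.n) ∧ inH T m r = true}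

theorem wt_sgn (m r : ℕ) : wt T F (sgn F m) r = (-1) ^ par T m r := by
  rw [wt, par, sumBelow_eq_sum, ← prod_zpow_sum]
  refine Finset.prod_congr rfl fun j _ => ?_
  unfold sgn
  cases Nat.testBit m j <;> simp

theorem wt_sgn_eq (m r : ℕ) : wt T F (sgn F m) r = if inH T m r = true then 1 else -1 := by
  rw [wt_sgn]
  by_cases h : inH T m r = true
  · rw [if_pos h]
    simp only [inH, beq_iff_eq] at h
    exact (Int.even_iff.2 h).neg_one_zpow
  · rw [if_neg h]
    simp only [inH, beq_iff_eq] at h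
    exact (Int.odd_iff.2 (by omega)).neg_one_zpow

theorem neg_one_ne (h2 : (2 : F) ≠ 0) : (-1 : Fˣ) ≠ 1 := fun e => h2 (by
  have := congrArg Units.val e
  rw [Units.val_neg, Units.val_one] at this
  linear_combination -this)

theorem wt_inj (h2 : (2 : F) ≠ 0) {m r s : ℕ} (h : wt T F (sgn F m) r = wt T F (sgn F m) s) :
    inH T m r = inH T m s := by
  rw [wt_sgn_eq, wt_sgn_eq] at h
  have := neg_one_ne h2
  cases hr : inH T m r <;> cases hs : inH T m s <;> simp only [hr, hs, if_true, Bool.false_eq_true, if_false] at h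
  · rfl
  · exact absurd h this
  · exact absurd h.symm this
  · rfl

theorem inH_neg (g : T.Good) (m : ℕ) {r : ℕ} (hr : r < T.n) : inH T m (T.neg r) = inH T m r := by
  have : par T m (T.neg r) = -par T m r := by
    rw [par, par, sumBelow_eq_sum, sumBelow_eq_sum, ← Finset.sum_neg_distrib]
    refine Finset.sum_congr rfl fun j hj => ?_
    cases Nat.testBit m j <;> simp [((g.sign' hr).1 j (Finset.mem_range.1 hj)).2.2.2]
  simp only [inH, this]
  rw [Bool.eq_iff_iff, beq_iff_eq, beq_iff_eq]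
  omega

theorem cl_posH (g : T.Good) (m : ℕ) : Cl T (posH T m) := by
  refine ⟨fun r hr => hr.1, fun r hr s hs c hc => ?_⟩
  obtain ⟨q1, -, -, q4, q5⟩ := cTerms_mem g hr.1.2 hs.1.2 hc
  refine ⟨⟨le_trans hr.1.1 (q5 hr.1.1 hs.1.1).1.le, q1⟩, ?_⟩
  have e : par T m c.1 = (c.2.2.1 : ℤ) * par T m r + (c.2.2.2 : ℤ) * par T m s := by
    simp only [par, sumBelow_eq_sum, Finset.mul_sum, ← Finset.sum_add_distrib]
    refine Finset.sum_congr rfl fun j hj => ?_
    cases Nat.testBit m j <;> simp [q4 j (Finset.mem_range.1 hj)]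
  have h1 := hr.2
  have h2 := hs.2
  simp only [inH, beq_iff_eq] at h1 h2 ⊢
  rw [e, Int.add_emod, Int.mul_emod, h1, mul_zero, Int.mul_emod _ (par T m s), h2, mul_zero]
  rfl

theorem cl_inv (g : T.GoodK K) {L : List ℕ} (hL : T.Wd L) :
    Cl T {r | T.N ≤ r ∧ r < T.n ∧ T.rw' L r < T.N} := by
  have h := cl_cond g.toGood (IsLin.comp_rw' g.toGood hL (phi0_lin T K)) (fun a => a < 0)
    fun a b i j hi hj ha hb => by
      have hi' : (1 : ℝ) ≤ i := by exact_mod_cast hi
      have hj' : (1 : ℝ) ≤ j := by exact_mod_cast hj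
      nlinarith
  convert h using 1
  ext r
  simp only [Set.mem_ofPred_eq, and_assoc, and_congr_right_iff]
  intro h1 h2
  refine ⟨fun h3 => phi0_neg g h3, fun h3 => ?_⟩
  by_contra hc
  exact absurd (phi0_pos g (not_lt.1 hc) (rw'_lt g.toGood hL h2)) (not_lt.2 h3.le)

/-- The subgroup of a closed set of `k` positive roots has `q ^ k` elements. -/
theorem card_genS (g : T.GoodA) [Fintype F] {S : Set ℕ} (hS : Cl T S) :
    Nat.card (genS g.toGood F S) = Fintype.card F ^ Nat.card S := by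
  classical
  have hg := g.toGood
  have hfin : S.Finite := (Set.finite_lt_nat T.n).subset fun r hr => (hS.pos hr).2
  have := hfin.to_subtype
  let ext : (S → F) → ℕ → F := fun t r => if h : r ∈ S then t ⟨r, h⟩ else 0
  have hmem : ∀ t : S → F, ordProd hg T.N (ext t) ∈ genS hg F S := by
    intro t
    refine Subgroup.list_prod_mem _ fun y hy => ?_
    obtain ⟨r, -, rfl⟩ := List.mem_map.1 hy
    by_cases h : r ∈ S
    · exact xg_mem_genS hg h _
    · simp only [ext, dif_neg h, xg_zero]; exact one_mem _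
  have hb : Function.Bijective (fun t : S → F => (⟨ordProd hg T.N (ext t), hmem t⟩ : genS hg F S)) := by
    constructor
    · intro t u h
      funext r
      have := (ordProd_spec g T.n T.N le_rfl (by omega)).2 _ _ (Subtype.ext_iff.1 h) r
        (hS.pos r.2).1 (hS.pos r.2).2
      simpa [ext, r.2] using this
    · rintro ⟨x, hx⟩
      obtain ⟨t, ht, ht0⟩ := exists_coords g hS T.n T.N (by omega) x (by
        rwa [Set.inter_eq_left.2 hS.pos])
      refine ⟨fun r => t r, Subtype.ext ?_⟩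
      show ordProd hg T.N _ = x
      rw [ht]
      refine ordProd_congr _ fun r h1 h2 => ?_
      by_cases h : r ∈ S
      · simp [ext, h]
      · simp [ext, h, ht0 r h1 h2 h]
  rw [← Nat.card_eq_of_bijective _ hb, Nat.card_fun, Nat.card_eq_fintype_card (α := F)]

theorem hM_conj_ord (g : T.Good) (m : ℕ) (t : ℕ → F) :
    hM T F m * ordProd g T.N t * (hM T F m)⁻¹ =
      ordProd g T.N (fun r => (wt T F (sgn F m) r : F) * t r) := by
  rw [← MulAut.conj_apply, ordProd, map_list_prod, List.map_map, ordProd]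
  refine congrArg List.prod (List.map_congr_left fun r hr => ?_)
  rw [List.mem_range'_1] at hr
  rw [Function.comp_apply, MulAut.conj_apply, hM, tor_xg g _ (by omega)]

/-- The elements of a closed root subgroup commuting with the involution. -/
theorem fixed_iff (g : T.GoodA) (h2 : (2 : F) ≠ 0) (m : ℕ) {S : Set ℕ} (hS : Cl T S) {x : GL T.D.Idx F} :
    x ∈ genS g.toGood F S ∧ hM T F m * x * (hM T F m)⁻¹ = x ↔
      x ∈ genS g.toGood F (S ∩ posH T m) := by
  have hg := g.toGood
  constructor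
  · rintro ⟨hx, hc⟩
    obtain ⟨t, rfl, ht0⟩ := exists_coords g hS T.n T.N (by omega) x (by
      rwa [Set.inter_eq_left.2 hS.pos])
    rw [hM_conj_ord] at hc
    have e := (ordProd_spec g T.n T.N le_rfl (by omega)).2 _ _ hc
    refine Subgroup.list_prod_mem _ fun y hy => ?_
    obtain ⟨r, hr, rfl⟩ := List.mem_map.1 hy
    rw [List.mem_range'_1] at hr
    by_cases hrS : r ∈ S
    swap
    · rw [ht0 r hr.1 (by omega) hrS, xg_zero]; exact one_mem _
    by_cases hH : inH T m r = true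
    · exact xg_mem_genS hg (S := S ∩ posH T m) ⟨hrS, ⟨hr.1, by omega⟩, hH⟩ _
    · have h := e r hr.1 (by omega)
      rw [wt_sgn_eq, if_neg hH] at h
      simp only [Units.val_neg, Units.val_one] at h
      have : t r = 0 := by
        have h3 : (2 : F) * t r = 0 := by linear_combination -h
        exact (mul_eq_zero.1 h3).resolve_left h2
      rw [this, xg_zero]; exact one_mem _
  · intro hx
    refine ⟨genS_mono hg Set.inter_subset_left hx, ?_⟩
    refine genS_induction hg (p := fun x => hM T F m * x * (hM T F m)⁻¹ = x) (by group) ?_ hx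
    rintro r hr t y hy
    calc hM T F m * (xg hg r t * y) * (hM T F m)⁻¹
        = (hM T F m * xg hg r t * (hM T F m)⁻¹) * (hM T F m * y * (hM T F m)⁻¹) := by group
      _ = _ := by rw [hy, hM, tor_xg hg _ hr.2.1.2, wt_sgn_eq, if_pos hr.2.2, Units.val_one, one_mul]

theorem nWd_dg (g : T.Good) : ∀ {L : List ℕ}, T.Wd L → ∀ χ : ℕ → Fˣ,
    nWd g F L * dg T F χ * (nWd g F L)⁻¹ = dg T F fun s => χ (T.rw' L.reverse s)
  | [], _, χ => by simp
  | i :: L, h, χ => by
    obtain ⟨hi, hL⟩ := Wd.cons_iff.1 h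
    rw [nWd_cons, show ∀ a b x : GL T.D.Idx F, a * b * x * (a * b)⁻¹ = a * (b * x * b⁻¹) * a⁻¹ from
      fun a b x => by group, nWd_dg g hL, nG_dg g hi]
    refine dg_congr g fun s _ => ?_
    rw [List.reverse_cons, rw'_append, rw'_cons, rw'_nil]

/-- A word carrying one mask to another conjugates the involutions. -/
theorem nWd_hM (g : T.Good) {L : List ℕ} (hL : T.Wd L) {m m' : ℕ}
    (h : ∀ r < T.n, inH T m' (T.rw' L r) = inH T m r) :
    nWd g F L * hM T F m * (nWd g F L)⁻¹ = hM T F m' := by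
  rw [hM, hM, tor_apply, tor_apply, nWd_dg g hL]
  refine dg_congr g fun s hs => ?_
  have e := h _ (rw'_lt g hL.reverse hs)
  rw [rw'_rev' g hL hs] at e
  rw [wt_sgn_eq, wt_sgn_eq, e]

variable (T) in
/-- The stabiliser of the mask in the Weyl group. -/
noncomputable def stabSet (g : T.Good) (m : ℕ) : Finset (Equiv.Perm (Fin T.n)) := by
  classical
  exact Finset.univ.filter fun p => p ∈ wG g ∧ ∀ r : Fin T.n, inH T m (p r) = inH T m r

theorem mem_stabSet (g : T.Good) {m : ℕ} {p : Equiv.Perm (Fin T.n)} :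
    p ∈ stabSet T g m ↔ p ∈ wG g ∧ ∀ r : Fin T.n, inH T m (p r) = inH T m r := by
  simp [stabSet]

variable (T) in
/-- The number of positive roots of the centraliser inverted by `p`. -/
noncomputable def hInv (m : ℕ) (p : Equiv.Perm (Fin T.n)) : ℕ :=
  Nat.card {r : Fin T.n // (T.N ≤ (r : ℕ) ∧ inH T m r = true) ∧ (p r : ℕ) < T.N}

/-- `|C(h)| = |H| q^{N_h} Σ q^{ℓ_h(w)}`. -/
theorem card_centralizer (g : T.GoodK K) (h2 : (2 : F) ≠ 0) [Fintype F] (m : ℕ) :
    Nat.card ↥(T.D.group F ⊓ Subgroup.centralizer {hM T F m}) =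
      Nat.card (T.D.diagonalSubgroup F) * Fintype.card F ^ Nat.card (posH T m) *
        ∑ p ∈ stabSet T g.toGood m, Fintype.card F ^ hInv T m p := by
  classical
  have hg := g.toGood
  have hA := g.toGoodA
  let Lw : ↥(stabSet T hg m) → List ℕ := fun w => ((mem_stabSet hg).1 w.2).1.choose
  have hLw : ∀ w, T.Wd (Lw w) ∧ pL hg (Lw w) = (w : Equiv.Perm (Fin T.n)) := fun w =>
    ((mem_stabSet hg).1 w.2).1.choose_spec
  let iS : List ℕ → Set ℕ := fun L => {r | T.N ≤ r ∧ r < T.n ∧ T.rw' L r < T.N}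
  let C := T.D.group F ⊓ Subgroup.centralizer {hM T F m}
  have memC : ∀ {y}, y ∈ C ↔ y ∈ T.D.group F ∧ hM T F m * y * (hM T F m)⁻¹ = y := fun {y} => by
    simp only [C, Subgroup.mem_inf, Subgroup.mem_centralizer_singleton_iff, mul_inv_eq_iff_eq_mul]
    exact and_congr_right fun _ => eq_comm
  have hclpos : Cl T (Set.Ico T.N T.n) := cl_pos hg
  have hposH : posH T m = Set.Ico T.N T.n ∩ posH T m :=
    (Set.inter_eq_right.2 fun r hr => hr.1).symm
  have hstab : ∀ w : ↥(stabSet T hg m), nWd hg F (Lw w) * hM T F m * (nWd hg F (Lw w))⁻¹ = hM T F m := by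
    intro w
    refine nWd_hM hg (hLw w).1 fun r hr => ?_
    have := ((mem_stabSet hg).1 w.2).2 ⟨r, hr⟩
    rw [← (hLw w).2, pL_apply hg (hLw w).1] at this
    exact this
  have htor : ∀ c, hM T F m * tor T F c * (hM T F m)⁻¹ = tor T F c := fun c => by
    rw [hM, ← map_inv, ← map_mul, ← map_mul, mul_comm (sgn F m), mul_inv_cancel_right]
  let f : (Σ w : ↥(stabSet T hg m), ↥(genS hg F (posH T m)) × ↥(T.D.diagonalSubgroup F) ×
      ↥(genS hg F (iS (Lw w) ∩ posH T m))) → ↥C := fun p =>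
    ⟨(p.2.1 : GL T.D.Idx F) * p.2.2.1 * nWd hg F (Lw p.1) * p.2.2.2, by
      obtain ⟨w, ⟨u, hu⟩, ⟨t, ht⟩, ⟨v, hv⟩⟩ := p
      rw [memC]
      rw [diagonalSubgroup_eq hg] at ht
      obtain ⟨c, rfl⟩ := ht
      rw [hposH] at hu
      obtain ⟨hu1, hu2⟩ := (fixed_iff hA h2 m hclpos).2 hu
      obtain ⟨hv1, hv2⟩ := (fixed_iff hA h2 m (cl_inv g (hLw w).1)).2 hv
      refine ⟨mul_mem (mul_mem (mul_mem (borel_le_group hg (genS_pos_le_borel hg (fun r hr => hr) hu1))
        (tor_mem_group hg c)) (monomial_le_group hg ((mem_monomial_iff hg).2 ⟨_, (hLw w).1, 1, by simp⟩)))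
        (borel_le_group hg (genS_pos_le_borel hg (fun r hr => hr) (uMinus_le_pos hg _ hv1))), ?_⟩
      have hn : hM T F m * nWd hg F (Lw w) * (hM T F m)⁻¹ = nWd hg F (Lw w) := by
        rw [mul_inv_eq_iff_eq_mul]
        exact (mul_inv_eq_iff_eq_mul.1 (hstab w)).symm
      calc hM T F m * (u * tor T F c * nWd hg F (Lw w) * v) * (hM T F m)⁻¹
          = (hM T F m * u * (hM T F m)⁻¹) * (hM T F m * tor T F c * (hM T F m)⁻¹) *
              (hM T F m * nWd hg F (Lw w) * (hM T F m)⁻¹) * (hM T F m * v * (hM T F m)⁻¹) := by group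
        _ = _ := by rw [hu2, htor, hn, hv2]⟩
  have hf : Function.Bijective f := by
    constructor
    · rintro ⟨w, ⟨u, hu⟩, ⟨t, ht⟩, ⟨v, hv⟩⟩ ⟨w', ⟨u', hu'⟩, ⟨t', ht'⟩, ⟨v', hv'⟩⟩ h
      have hn := (mem_monomial_iff (F := F) hg).2 ⟨Lw w, (hLw w).1, 1, rfl⟩
      have hn' := (mem_monomial_iff (F := F) hg).2 ⟨Lw w', (hLw w').1, 1, rfl⟩
      have hUB : ∀ {u}, u ∈ genS hg F (posH T m) → u ∈ T.D.borelSubgroup F :=
        fun h => genS_pos_le_borel hg (fun r (hr : r ∈ posH T m) => hr.1) h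
      have h' : u * t * (tor T F 1 * nWd hg F (Lw w)) * v = u' * t' * (tor T F 1 * nWd hg F (Lw w')) * v' := by
        simpa [f] using congrArg Subtype.val h
      obtain ⟨hd, hsame⟩ := bruhat_unique hA
        (mul_mem (hUB hu) (Subgroup.mem_sup_right ht)) (mul_mem (hUB hu') (Subgroup.mem_sup_right ht'))
        hn hn' (hLw w).1 rfl (genS_mono hg Set.inter_subset_left hv) (genS_mono hg Set.inter_subset_left hv') h'
      rw [diagonalSubgroup_eq hg, map_one, one_mul, one_mul] at hd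
      obtain ⟨d, hd⟩ := hd
      obtain ⟨e, he⟩ := torus_pass hg (nWd_mem_wSub (F := F) hg (hLw w).1) d
      obtain rfl : w = w' := Subtype.ext (by
        rw [← (hLw w).2, ← (hLw w').2, pL_eq_iff hg (hLw w).1 (hLw w').1]
        exact fun s hs => rw'_of_nWd_eq hg (hLw w).1 (hLw w').1 (c := e) (d := 1)
          (by rw [← he, hd, map_one, one_mul, mul_inv_cancel_left]) hs)
      obtain ⟨hb, rfl⟩ := hsame rfl rfl
      obtain rfl : u = u' := inv_mul_eq_one.1 (pos_inf_torus hg (x := u⁻¹ * u')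
        (genS_mono hg (fun r (hr : r ∈ posH T m) => hr.1) (mul_mem (inv_mem hu) hu'))
        (by rw [show u⁻¹ * u' = t * t'⁻¹ by
              calc u⁻¹ * u' = u⁻¹ * (u' * t') * t'⁻¹ := by group
                _ = _ := by rw [← hb]; group]
            exact mul_mem ht (inv_mem ht')))
      obtain rfl : t = t' := mul_left_cancel hb
      rfl
    · rintro ⟨x, hx⟩
      obtain ⟨hxG, hxc⟩ := memC.1 hx
      obtain ⟨b, hb, n, hn, L, hL, ⟨c, rfl⟩, v, hv, rfl⟩ := bruhat_exists hA hxG
      obtain ⟨u, hu, c1, rfl⟩ := (mem_borel_iff hg).1 hb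
      obtain ⟨h, hh⟩ : ∃ h, h = hM T F m := ⟨_, rfl⟩
      rw [← hh] at hxc
      obtain ⟨e, he⟩ : ∃ e, h * nWd hg F L * h⁻¹ = tor T F e * nWd hg F L := by
        obtain ⟨d, hd⟩ := torus_pass hg (nWd_mem_wSub (F := F) hg hL) (sgn F m)⁻¹
        refine ⟨sgn F m * d, ?_⟩
        rw [hh, hM, ← map_inv, mul_assoc, hd, map_mul, mul_assoc]
      have hUn : ∀ {S : Set ℕ}, (∀ r ∈ S, r < T.n) → ∀ y ∈ genS hg F S, h * y * h⁻¹ ∈ genS hg F S :=
        fun hS y hy => hh ▸ (Subgroup.mem_normalizer_iff.1 (tor_normalizes hg hS _) y).1 hy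
      have hhu := hUn (fun r hr => hr.2) u hu
      have hhv := hUn (fun r hr => hr.2.1) v hv
      have hN : tor T F 1 * nWd hg F L ∈ T.D.monomialSubgroup F := (mem_monomial_iff hg).2 ⟨L, hL, 1, rfl⟩
      have heq : h * u * h⁻¹ * tor T F (c1 * c * e) * (tor T F 1 * nWd hg F L) * (h * v * h⁻¹) =
          u * tor T F (c1 * c) * (tor T F 1 * nWd hg F L) * v := by
        rw [map_one, one_mul]
        calc _ = h * u * h⁻¹ * (h * tor T F (c1 * c) * h⁻¹) * (tor T F e * nWd hg F L) * (h * v * h⁻¹) := by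
              rw [hh, htor, map_mul (tor T F) _ e]; simp only [mul_assoc]
          _ = h * (u * tor T F c1 * (tor T F c * nWd hg F L) * v) * h⁻¹ := by
              rw [← he, map_mul]; group
          _ = _ := by rw [hxc, map_mul]; simp only [mul_assoc]
      obtain ⟨hb', hv2⟩ := (bruhat_unique hA
        (mul_mem (genS_pos_le_borel hg (fun r hr => hr) hhu) (torus_le_borel hg _))
        (mul_mem (genS_pos_le_borel hg (fun r hr => hr) hu) (torus_le_borel hg _))
        hN hN hL rfl hhv hv heq).2 rfl rfl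
      have hu2 : h * u * h⁻¹ = u := (inv_mul_eq_one.1 (pos_inf_torus hg (x := u⁻¹ * (h * u * h⁻¹))
        (mul_mem (inv_mem hu) hhu)
        (by rw [show u⁻¹ * (h * u * h⁻¹) = tor T F (c1 * c) * (tor T F (c1 * c * e))⁻¹ by
              calc u⁻¹ * (h * u * h⁻¹) = u⁻¹ * (h * u * h⁻¹ * tor T F (c1 * c * e)) *
                    (tor T F (c1 * c * e))⁻¹ := by group
                _ = _ := by rw [hb']; group,
              diagonalSubgroup_eq hg]
            exact mul_mem ⟨_, rfl⟩ (inv_mem ⟨_, rfl⟩)))).symm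
      rw [hu2, map_mul (tor T F) _ e] at hb'
      have he1 : tor T F e = 1 := mul_eq_left.1 (mul_left_cancel hb')
      rw [he1, one_mul] at he
      have hpar : ∀ r < T.n, inH T m (T.rw' L r) = inH T m r := by
        intro r hr
        obtain ⟨ε, -, hε⟩ := nWd_conj (F := F) hg hL hr
        have h1 : h * xg hg (T.rw' L r) (ε : F) * h⁻¹ =
            nWd hg F L * (h * xg hg r (1 : F) * h⁻¹) * (nWd hg F L)⁻¹ := by
          calc h * xg hg (T.rw' L r) (ε : F) * h⁻¹
              = h * (nWd hg F L * xg hg r (1 : F) * (nWd hg F L)⁻¹) * h⁻¹ := by rw [(hε 1).1, mul_one]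
            _ = (h * nWd hg F L * h⁻¹) * (h * xg hg r (1 : F) * h⁻¹) * (h * nWd hg F L * h⁻¹)⁻¹ := by group
            _ = _ := by rw [he]
        rw [hh, hM, tor_xg hg _ (rw'_lt hg hL hr), tor_xg hg _ hr, (hε _).1] at h1
        have h3 := xg_injective hg (rw'_lt hg hL hr) h1
        refine wt_inj h2 (Units.ext ?_)
        have := Units.ne_zero ε
        field_simp at h3
        exact h3
      let w : ↥(stabSet T hg m) := ⟨pL hg L, (mem_stabSet hg).2 ⟨⟨L, hL, rfl⟩, fun r => by
        rw [pL_apply hg hL]; exact hpar r r.2⟩⟩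
      have hagree := (pL_eq_iff hg (hLw w).1 hL).1 (hLw w).2
      obtain ⟨d, hd⟩ : ∃ d, nWd hg F L = tor T F d * nWd hg F (Lw w) := by
        obtain ⟨⟨d1, hd1⟩, -⟩ := nWd_torus_of_pos (F := F) hg _ le_rfl
          (L := L ++ (Lw w).reverse) (Wd.append_iff.2 ⟨hL, (hLw w).1.reverse⟩) (fun s h1 h2 => by
            have e := rw'_rev' hg (hLw w).1 h2
            rw [hagree _ (rw'_lt hg (hLw w).1.reverse h2)] at e
            rw [rw'_append, e]
            exact h1)
        obtain ⟨⟨d2, hd2⟩, -⟩ := nWd_torus_of_pos (F := F) hg _ le_rfl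
          (L := Lw w ++ (Lw w).reverse) (Wd.append_iff.2 ⟨(hLw w).1, (hLw w).1.reverse⟩) (fun s h1 h2 => by
            rw [rw'_append, rw'_rev' hg (hLw w).1 h2]; exact h1)
        refine ⟨d1 * d2⁻¹, ?_⟩
        rw [nWd_append] at hd1 hd2
        rw [map_mul, map_inv, ← hd1, ← hd2]
        group
      have hvw : v ∈ genS hg F (iS (Lw w) ∩ posH T m) := by
        refine (fixed_iff hA h2 m (cl_inv g (hLw w).1)).1 ⟨?_, by rw [← hh]; exact hv2⟩
        show v ∈ uMinus hg F (Lw w)
        rw [uMinus_congr hg hagree]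
        exact hv
      have huH : u ∈ genS hg F (posH T m) := by
        rw [hposH]
        exact (fixed_iff hA h2 m hclpos).1 ⟨hu, by rw [← hh]; exact hu2⟩
      refine ⟨⟨w, ⟨u, huH⟩, ⟨tor T F (c1 * c * d), by rw [diagonalSubgroup_eq hg]; exact ⟨_, rfl⟩⟩,
        ⟨v, hvw⟩⟩, Subtype.ext ?_⟩
      show u * tor T F (c1 * c * d) * nWd hg F (Lw w) * v =
        u * tor T F c1 * (tor T F c * nWd hg F L) * v
      rw [hd, map_mul, map_mul]
      simp only [mul_assoc]
  rw [← Nat.card_eq_of_bijective f hf, Nat.card_sigma, Finset.mul_sum,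
    ← Finset.sum_coe_sort (stabSet T hg m)]
  refine Finset.sum_congr rfl fun w _ => ?_
  have hcl : Cl T (iS (Lw w) ∩ posH T m) := (cl_inv g (hLw w).1).inter (cl_posH hg m)
  rw [Nat.card_prod, Nat.card_prod, card_genS hA (cl_posH hg m), card_genS hA hcl]
  have hwv : ∀ r : Fin T.n, ((w : Equiv.Perm (Fin T.n)) r : ℕ) = T.rw' (Lw w) r := fun r => by
    rw [← pL_apply hg (hLw w).1, (hLw w).2]
  have hcard : Nat.card ↥(iS (Lw w) ∩ posH T m) = hInv T m (w : Equiv.Perm (Fin T.n)) := by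
    refine Nat.card_congr
      { toFun := fun r => ⟨⟨r.1, r.2.2.1.2⟩, ⟨r.2.2.1.1, r.2.2.2⟩, ?_⟩
        invFun := fun r => ⟨r.1, ⟨r.2.1.1, r.1.2, ?_⟩, ⟨r.2.1.1, r.1.2⟩, r.2.1.2⟩
        left_inv := fun _ => rfl
        right_inv := fun _ => rfl }
    · rw [hwv]; exact r.2.1.2.2
    · have := r.2.2
      rwa [hwv] at this
  rw [hcard]
  ring

end Cfsg.Agent.ChevOdd
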