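import Cfsg.Agent.Lib.ChevOdd.Count
import Cfsg.Agent.Lib.Lie.OrderE8

/-! Certificates for the classes of involutions of E8 in odd characteristic. -/

set_option autoImplicit false
set_option maxRecDepth 20000

namespace Cfsg.Agent.ChevOdd.E8

open Cfsg.Agent.Chev Cfsg.Agent.ChevOdd

/-- representatives -/
def repsa0 : List Tab.Rep :=
  [⟨[0], 1, 5588302493499750776, [(true, 1)]⟩,
   ⟨[], 0, 11713167200398047608, [(true, 0)]⟩]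

/-- representatives -/
def repsa1 : List Tab.Rep :=
  [⟨[2, 0], 2, 5516243825719998840, [(true, 2), (false, 0)]⟩,
   ⟨[], 0, 11713167200398047608, [(false, 0), (true, 2)]⟩,
   ⟨[2], 1, 11785190735345318264, [(true, 0), (true, 1)]⟩]

/-- representatives -/
def repsa2 : List Tab.Rep :=
  [⟨[3, 2, 0], 3, 5444467702447700344, [(true, 3), (false, 0), (false, 2)]⟩,
   ⟨[], 0, 11713167200398047608, [(false, 0), (false, 2), (true, 2)]⟩,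
   ⟨[3], 1, 11713449684775958904, [(false, 0), (true, 3), (true, 1)]⟩,
   ⟨[3, 2], 2, 11857528700637247864, [(true, 0), (true, 2), (false, 2)]⟩]

/-- representatives -/
def repsa3 : List Tab.Rep :=
  [⟨[1, 3, 2, 0], 4, 5080802032738859384, [(true, 4), (false, 0), (false, 2), (false, 3)]⟩,
   ⟨[1], 1, 11701063827939096952, [(false, 0), (false, 2), (true, 2), (true, 3)]⟩,
   ⟨[1, 3], 2, 11710084028345055608, [(false, 0), (true, 4), (true, 1), (false, 3)]⟩,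
   ⟨[], 0, 11713167200398047608, [(false, 0), (false, 2), (false, 3), (true, 1)]⟩,
   ⟨[1, 3, 2], 3, 12214426876679780728, [(true, 0), (true, 2), (false, 2), (false, 3)]⟩]

/-- representatives -/
def repsa4 : List Tab.Rep :=
  [⟨[4, 3, 2, 0, 1], 5, 5359462315299142008, [(true, 12), (false, 0), (true, 1), (true, 3), (false, 3)]⟩,
   ⟨[4, 3, 2, 0, 1, 3], 6, 5370448391039842680, [(true, 13), (true, 5), (true, 0), (false, 2), (true, 2)]⟩,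
   ⟨[4, 3, 2, 0, 1, 3, 4], 7, 5370448557454948728, [(true, 14), (true, 6), (false, 3), (false, 2), (true, 1)]⟩,
   ⟨[4, 3, 2, 0], 4, 5372691583369967992, [(true, 15), (false, 0), (false, 2), (true, 0), (false, 3)]⟩,
   ⟨[4, 3, 2, 0, 1, 3, 2, 4, 3, 1], 10, 10175745402127284600, [(false, 1), (false, 3), (false, 2), (true, 7), (false, 0)]⟩,
   ⟨[4, 3, 2, 0, 1, 3, 2], 7, 10198196445849287032, [(false, 1), (true, 1), (false, 0), (false, 2), (true, 6)]⟩,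
   ⟨[4, 3, 2, 0, 1, 3, 2, 4], 8, 10198196496300276088, [(false, 1), (true, 2), (true, 7), (false, 2), (true, 5)]⟩,
   ⟨[4, 3, 2, 0, 1, 3, 2, 4, 3], 9, 10212055373475248504, [(false, 1), (false, 3), (true, 6), (true, 4), (false, 0)]⟩,
   ⟨[4, 3, 1], 3, 11700503072781334904, [(false, 0), (true, 12), (false, 1), (true, 11), (false, 3)]⟩,
   ⟨[], 0, 11713167200398047608, [(false, 0), (false, 2), (false, 3), (false, 1), (true, 10)]⟩,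
   ⟨[4], 1, 11713167204475173240, [(false, 0), (false, 2), (true, 11), (false, 1), (true, 9)]⟩,
   ⟨[4, 3], 2, 11713732254952814968, [(false, 0), (true, 15), (true, 10), (true, 8), (false, 3)]⟩,
   ⟨[4, 3, 2, 1], 4, 11916637402052917624, [(true, 0), (true, 8), (true, 13), (true, 15), (false, 3)]⟩,
   ⟨[4, 3, 2, 1, 3], 5, 11927657562654079352, [(true, 1), (false, 1), (true, 12), (false, 2), (true, 14)]⟩,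
   ⟨[4, 3, 2, 1, 3, 4], 6, 11927657729069185400, [(true, 2), (false, 1), (false, 3), (false, 2), (true, 13)]⟩,
   ⟨[4, 3, 2], 3, 11929866670123743608, [(true, 3), (true, 11), (false, 2), (true, 12), (false, 3)]⟩]

/-- representatives -/
def repsa5 : List Tab.Rep :=
  [⟨[5, 4, 3, 2, 0, 1, 3, 2, 4, 3, 1, 5, 4, 3, 2, 0], 16, 2557637230153867128, [(true, 26), (false, 1), (false, 3), (false, 4), (false, 2), (false, 0)]⟩,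
   ⟨[5, 4, 3, 2, 0, 1], 6, 5287123250579405944, [(true, 21), (false, 0), (true, 2), (true, 5), (false, 3), (false, 4)]⟩,
   ⟨[5, 4, 3, 2, 0, 1, 3], 7, 5298391892235287672, [(true, 22), (true, 10), (true, 1), (false, 2), (true, 3), (false, 4)]⟩,
   ⟨[5, 4, 3, 2, 0, 1, 3, 4], 8, 5298392062911872120, [(true, 23), (true, 11), (false, 3), (false, 2), (true, 2), (true, 4)]⟩,
   ⟨[5, 4, 3, 2, 0, 1, 3, 4, 5], 9, 5298392063578185592, [(true, 24), (true, 12), (false, 3), (false, 2), (false, 4), (true, 3)]⟩,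
   ⟨[5, 4, 3, 2, 0], 5, 5300915464308685944, [(true, 25), (false, 0), (false, 2), (true, 1), (false, 3), (false, 4)]⟩,
   ⟨[5, 4, 3, 2, 0, 1, 3, 2, 4, 3, 1], 11, 10175463927150574712, [(false, 1), (false, 3), (false, 2), (true, 13), (false, 0), (true, 7)]⟩,
   ⟨[5, 4, 3, 2, 0, 1, 3, 2, 4, 3, 1, 5], 12, 10175463927414235000, [(false, 1), (false, 3), (false, 2), (true, 14), (true, 8), (true, 6)]⟩,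
   ⟨[5, 4, 3, 2, 0, 1, 3, 2, 4, 3, 1, 5, 4], 13, 10175464153089744760, [(false, 1), (false, 3), (true, 9), (true, 15), (true, 7), (false, 0)]⟩,
   ⟨[5, 4, 3, 2, 0, 1, 3, 2, 4, 3, 1, 5, 4, 3], 14, 10195800132988084088, [(false, 1), (true, 26), (true, 8), (false, 4), (false, 2), (false, 0)]⟩,
   ⟨[5, 4, 3, 2, 0, 1, 3, 2], 8, 10198195346354371704, [(false, 1), (true, 2), (false, 0), (false, 2), (true, 11), (false, 4)]⟩,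
   ⟨[5, 4, 3, 2, 0, 1, 3, 2, 4], 9, 10198195401066839160, [(false, 1), (true, 3), (true, 13), (false, 2), (true, 10), (true, 12)]⟩,
   ⟨[5, 4, 3, 2, 0, 1, 3, 2, 4, 5], 10, 10198195401733152632, [(false, 1), (true, 4), (true, 14), (false, 2), (false, 4), (true, 11)]⟩,
   ⟨[5, 4, 3, 2, 0, 1, 3, 2, 4, 3], 10, 10212336844156992632, [(false, 1), (false, 3), (true, 11), (true, 6), (false, 0), (true, 14)]⟩,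
   ⟨[5, 4, 3, 2, 0, 1, 3, 2, 4, 3, 5], 11, 10212336844420652920, [(false, 1), (false, 3), (true, 12), (true, 7), (true, 15), (true, 13)]⟩,
   ⟨[5, 4, 3, 2, 0, 1, 3, 2, 4, 3, 5, 4], 12, 10212337108750868344, [(false, 1), (false, 3), (false, 4), (true, 8), (true, 14), (false, 0)]⟩,
   ⟨[5, 4, 3, 1], 4, 11700222697316187256, [(false, 0), (true, 21), (false, 1), (true, 20), (false, 3), (false, 4)]⟩,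
   ⟨[], 0, 11713167200398047608, [(false, 0), (false, 2), (false, 3), (false, 1), (false, 4), (true, 18)]⟩,
   ⟨[5], 1, 11713167200414366840, [(false, 0), (false, 2), (false, 3), (false, 1), (true, 19), (true, 17)]⟩,
   ⟨[5, 4], 2, 11713167208753298552, [(false, 0), (false, 2), (true, 20), (false, 1), (true, 18), (false, 4)]⟩,
   ⟨[5, 4, 3], 3, 11714014825146121336, [(false, 0), (true, 25), (true, 19), (true, 16), (false, 3), (false, 4)]⟩,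
   ⟨[5, 4, 3, 2, 1], 5, 11988412425897409656, [(true, 1), (true, 16), (true, 22), (true, 25), (false, 3), (false, 4)]⟩,
   ⟨[5, 4, 3, 2, 1, 3], 6, 11999715152413752440, [(true, 2), (false, 1), (true, 21), (false, 2), (true, 23), (false, 4)]⟩,
   ⟨[5, 4, 3, 2, 1, 3, 4], 7, 11999715323090336888, [(true, 3), (false, 1), (false, 3), (false, 2), (true, 22), (true, 24)]⟩,
   ⟨[5, 4, 3, 2, 1, 3, 4, 5], 8, 11999715323756650360, [(true, 4), (false, 1), (false, 3), (false, 2), (false, 4), (true, 23)]⟩,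
   ⟨[5, 4, 3, 2], 4, 12002204639626689656, [(true, 5), (true, 20), (false, 2), (true, 21), (false, 3), (false, 4)]⟩,
   ⟨[5, 4, 3, 2, 0, 1, 3, 2, 4, 3, 1, 5, 4, 3, 2], 15, 14735265069447421816, [(true, 0), (true, 9), (false, 3), (false, 4), (false, 2), (false, 0)]⟩]

/-- representatives -/
def repsa6 : List Tab.Rep :=
  [⟨[6, 5, 4, 3, 2, 0, 1, 3, 2, 4, 3, 1, 5, 4, 3, 2, 0, 6, 5, 4, 3, 1], 22, 2461163863644021409, [(true, 50), (true, 12), (false, 4), (true, 5), (false, 3), (false, 2), (false, 0)]⟩,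
   ⟨[6, 5, 4, 3, 2, 0, 1, 3, 2, 4, 3, 1, 5, 4, 3, 2, 0], 17, 2485579636115939194, [(true, 51), (false, 1), (false, 3), (false, 4), (false, 2), (false, 0), (true, 2)]⟩,
   ⟨[6, 5, 4, 3, 2, 0, 1, 3, 2, 4, 3, 1, 5, 4, 3, 2, 0, 6], 18, 2485579636117164193, [(true, 52), (false, 1), (false, 3), (false, 4), (false, 2), (true, 3), (true, 1)]⟩,
   ⟨[6, 5, 4, 3, 2, 0, 1, 3, 2, 4, 3, 1, 5, 4, 3, 2, 0, 6, 5], 19, 2485579637048648353, [(true, 53), (false, 1), (false, 3), (false, 4), (true, 4), (true, 2), (false, 0)]⟩,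
   ⟨[6, 5, 4, 3, 2, 0, 1, 3, 2, 4, 3, 1, 5, 4, 3, 2, 0, 6, 5, 4], 20, 2485579922417361569, [(true, 54), (false, 1), (true, 5), (false, 4), (true, 3), (false, 2), (false, 0)]⟩,
   ⟨[6, 5, 4, 3, 2, 0, 1, 3, 2, 4, 3, 1, 5, 4, 3, 2, 0, 6, 5, 4, 3], 21, 2506480974117184161, [(true, 55), (true, 17), (true, 4), (true, 0), (false, 3), (false, 2), (false, 0)]⟩,
   ⟨[6, 5, 4, 3, 2, 0, 1], 7, 5214784185859734394, [(true, 44), (false, 0), (true, 7), (true, 11), (false, 3), (false, 4), (false, 5)]⟩,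
   ⟨[6, 5, 4, 3, 2, 0, 1, 3], 8, 5226335393430797178, [(true, 45), (true, 28), (true, 6), (false, 2), (true, 8), (false, 4), (false, 5)]⟩,
   ⟨[6, 5, 4, 3, 2, 0, 1, 3, 4], 9, 5226335568368860026, [(true, 46), (true, 29), (false, 3), (false, 2), (true, 7), (true, 9), (false, 5)]⟩,
   ⟨[6, 5, 4, 3, 2, 0, 1, 3, 4, 5], 10, 5226335569051819898, [(true, 47), (true, 30), (false, 3), (false, 2), (false, 4), (true, 8), (true, 10)]⟩,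
   ⟨[6, 5, 4, 3, 2, 0, 1, 3, 4, 5, 6], 11, 5226335569054486689, [(true, 48), (true, 31), (false, 3), (false, 2), (false, 4), (false, 5), (true, 9)]⟩,
   ⟨[6, 5, 4, 3, 2, 0], 6, 5229139345247468410, [(true, 49), (false, 0), (false, 2), (true, 6), (false, 3), (false, 4), (false, 5)]⟩,
   ⟨[6, 5, 4, 3, 2, 0, 1, 3, 2, 4, 3, 1, 5, 4, 3, 2, 0, 6, 5, 4, 3, 2, 1], 23, 8874097679261999777, [(false, 5), (true, 0), (true, 13), (true, 17), (false, 3), (false, 2), (false, 0)]⟩,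
   ⟨[6, 5, 4, 3, 2, 0, 1, 3, 2, 4, 3, 1, 5, 4, 3, 2, 0, 6, 5, 4, 3, 2, 1, 3], 24, 8902910704999703201, [(false, 5), (false, 4), (true, 12), (false, 1), (true, 14), (false, 2), (false, 0)]⟩,
   ⟨[6, 5, 4, 3, 2, 0, 1, 3, 2, 4, 3, 1, 5, 4, 3, 2, 0, 6, 5, 4, 3, 2, 1, 3, 4], 25, 8902911135626011297, [(false, 5), (false, 4), (false, 3), (false, 1), (true, 13), (true, 15), (false, 0)]⟩,
   ⟨[6, 5, 4, 3, 2, 0, 1, 3, 2, 4, 3, 1, 5, 4, 3, 2, 0, 6, 5, 4, 3, 2, 1, 3, 4, 5], 26, 8902911137458479777, [(false, 5), (false, 4), (false, 3), (false, 1), (false, 2), (true, 14), (true, 16)]⟩,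
   ⟨[6, 5, 4, 3, 2, 0, 1, 3, 2, 4, 3, 1, 5, 4, 3, 2, 0, 6, 5, 4, 3, 2, 1, 3, 4, 5, 6], 27, 8902911137467731438, [(false, 5), (false, 4), (false, 3), (false, 1), (false, 2), (false, 0), (true, 15)]⟩,
   ⟨[6, 5, 4, 3, 2, 0, 1, 3, 2, 4, 3, 1, 5, 4, 3, 2, 0, 6, 5, 4, 3, 2], 22, 8919414854159671969, [(false, 5), (true, 5), (false, 1), (true, 12), (false, 3), (false, 2), (false, 0)]⟩,
   ⟨[6, 5, 4, 3, 2, 0, 1, 3, 2, 4, 3, 1], 12, 10175182452173929338, [(false, 1), (false, 3), (false, 2), (true, 32), (false, 0), (true, 19), (false, 5)]⟩,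
   ⟨[6, 5, 4, 3, 2, 0, 1, 3, 2, 4, 3, 1, 5], 13, 10175182452454236026, [(false, 1), (false, 3), (false, 2), (true, 33), (true, 21), (true, 18), (true, 20)]⟩,
   ⟨[6, 5, 4, 3, 2, 0, 1, 3, 2, 4, 3, 1, 5, 6], 14, 10175182452456902817, [(false, 1), (false, 3), (false, 2), (true, 34), (true, 22), (false, 5), (true, 19)]⟩,
   ⟨[6, 5, 4, 3, 2, 0, 1, 3, 2, 4, 3, 1, 5, 4], 14, 10175182682391224186, [(false, 1), (false, 3), (true, 24), (true, 35), (true, 19), (false, 0), (true, 22)]⟩,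
   ⟨[6, 5, 4, 3, 2, 0, 1, 3, 2, 4, 3, 1, 5, 4, 6], 15, 10175182682392449185, [(false, 1), (false, 3), (true, 25), (true, 36), (true, 20), (true, 23), (true, 21)]⟩,
   ⟨[6, 5, 4, 3, 2, 0, 1, 3, 2, 4, 3, 1, 5, 4, 6, 5], 16, 10175182683441373857, [(false, 1), (false, 3), (true, 26), (true, 37), (false, 5), (true, 22), (false, 0)]⟩,
   ⟨[6, 5, 4, 3, 2, 0, 1, 3, 2, 4, 3, 1, 5, 4, 3], 15, 10195801228204744570, [(false, 1), (true, 51), (true, 21), (false, 4), (false, 2), (false, 0), (true, 25)]⟩,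
   ⟨[6, 5, 4, 3, 2, 0, 1, 3, 2, 4, 3, 1, 5, 4, 3, 6], 16, 10195801228205969569, [(false, 1), (true, 52), (true, 22), (false, 4), (false, 2), (true, 26), (true, 24)]⟩,
   ⟨[6, 5, 4, 3, 2, 0, 1, 3, 2, 4, 3, 1, 5, 4, 3, 6, 5], 17, 10195801229137453729, [(false, 1), (true, 53), (true, 23), (false, 4), (true, 27), (true, 25), (false, 0)]⟩,
   ⟨[6, 5, 4, 3, 2, 0, 1, 3, 2, 4, 3, 1, 5, 4, 3, 6, 5, 4], 18, 10195801540275970721, [(false, 1), (true, 54), (false, 5), (false, 4), (true, 26), (false, 2), (false, 0)]⟩,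
   ⟨[6, 5, 4, 3, 2, 0, 1, 3, 2], 9, 10198194246859520890, [(false, 1), (true, 7), (false, 0), (false, 2), (true, 29), (false, 4), (false, 5)]⟩,
   ⟨[6, 5, 4, 3, 2, 0, 1, 3, 2, 4], 10, 10198194305833466746, [(false, 1), (true, 8), (true, 32), (false, 2), (true, 28), (true, 30), (false, 5)]⟩,
   ⟨[6, 5, 4, 3, 2, 0, 1, 3, 2, 4, 5], 11, 10198194306516426618, [(false, 1), (true, 9), (true, 33), (false, 2), (false, 4), (true, 29), (true, 31)]⟩,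
   ⟨[6, 5, 4, 3, 2, 0, 1, 3, 2, 4, 5, 6], 12, 10198194306519093409, [(false, 1), (true, 10), (true, 34), (false, 2), (false, 4), (false, 5), (true, 30)]⟩,
   ⟨[6, 5, 4, 3, 2, 0, 1, 3, 2, 4, 3], 11, 10212618314838801274, [(false, 1), (false, 3), (true, 29), (true, 18), (false, 0), (true, 33), (false, 5)]⟩,
   ⟨[6, 5, 4, 3, 2, 0, 1, 3, 2, 4, 3, 5], 12, 10212618315119107962, [(false, 1), (false, 3), (true, 30), (true, 19), (true, 35), (true, 32), (true, 34)]⟩,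
   ⟨[6, 5, 4, 3, 2, 0, 1, 3, 2, 4, 3, 5, 6], 13, 10212618315121774753, [(false, 1), (false, 3), (true, 31), (true, 20), (true, 36), (false, 5), (true, 33)]⟩,
   ⟨[6, 5, 4, 3, 2, 0, 1, 3, 2, 4, 3, 5, 4], 13, 10212618583710801786, [(false, 1), (false, 3), (false, 4), (true, 21), (true, 33), (false, 0), (true, 36)]⟩,
   ⟨[6, 5, 4, 3, 2, 0, 1, 3, 2, 4, 3, 5, 4, 6], 14, 10212618583712026785, [(false, 1), (false, 3), (false, 4), (true, 22), (true, 34), (true, 37), (true, 35)]⟩,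
   ⟨[6, 5, 4, 3, 2, 0, 1, 3, 2, 4, 3, 5, 4, 6, 5], 15, 10212618584760951457, [(false, 1), (false, 3), (false, 4), (true, 23), (false, 5), (true, 36), (false, 0)]⟩,
   ⟨[6, 5, 4, 3, 1], 5, 11699942321851104122, [(false, 0), (true, 44), (false, 1), (true, 43), (false, 3), (false, 4), (false, 5)]⟩,
   ⟨[], 0, 11713167200398047608, [(false, 0), (false, 2), (false, 3), (false, 1), (false, 4), (false, 5), (true, 40)]⟩,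
   ⟨[6], 1, 11713167200398112378, [(false, 0), (false, 2), (false, 3), (false, 1), (false, 4), (true, 41), (true, 39)]⟩,
   ⟨[6, 5], 2, 11713167200431078266, [(false, 0), (false, 2), (false, 3), (false, 1), (true, 42), (true, 40), (false, 5)]⟩,
   ⟨[6, 5, 4], 3, 11713167213031488378, [(false, 0), (false, 2), (true, 43), (false, 1), (true, 41), (false, 4), (false, 5)]⟩,
   ⟨[6, 5, 4, 3], 4, 11714297395339492218, [(false, 0), (true, 49), (true, 42), (true, 38), (false, 3), (false, 4), (false, 5)]⟩,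
   ⟨[6, 5, 4, 3, 2, 1], 6, 12060187449741966202, [(true, 6), (true, 38), (true, 45), (true, 49), (false, 3), (false, 4), (false, 5)]⟩,
   ⟨[6, 5, 4, 3, 2, 1, 3], 7, 12071772742173490042, [(true, 7), (false, 1), (true, 44), (false, 2), (true, 46), (false, 4), (false, 5)]⟩,
   ⟨[6, 5, 4, 3, 2, 1, 3, 4], 8, 12071772917111552890, [(true, 8), (false, 1), (false, 3), (false, 2), (true, 45), (true, 47), (false, 5)]⟩,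
   ⟨[6, 5, 4, 3, 2, 1, 3, 4, 5], 9, 12071772917794512762, [(true, 9), (false, 1), (false, 3), (false, 2), (false, 4), (true, 46), (true, 48)]⟩,
   ⟨[6, 5, 4, 3, 2, 1, 3, 4, 5, 6], 10, 12071772917797179553, [(true, 10), (false, 1), (false, 3), (false, 2), (false, 4), (false, 5), (true, 47)]⟩,
   ⟨[6, 5, 4, 3, 2], 5, 12074542609129700218, [(true, 11), (true, 43), (false, 2), (true, 44), (false, 3), (false, 4), (false, 5)]⟩,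
   ⟨[6, 5, 4, 3, 2, 0, 1, 3, 2, 4, 3, 1, 5, 4, 3, 2, 6, 5, 4, 3, 1], 21, 14782920085152965281, [(true, 0), (false, 5), (false, 4), (true, 55), (false, 3), (false, 2), (false, 0)]⟩,
   ⟨[6, 5, 4, 3, 2, 0, 1, 3, 2, 4, 3, 1, 5, 4, 3, 2], 16, 14807321563973721978, [(true, 1), (true, 24), (false, 3), (false, 4), (false, 2), (false, 0), (true, 52)]⟩,
   ⟨[6, 5, 4, 3, 2, 0, 1, 3, 2, 4, 3, 1, 5, 4, 3, 2, 6], 17, 14807321563974946977, [(true, 2), (true, 25), (false, 3), (false, 4), (false, 2), (true, 53), (true, 51)]⟩,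
   ⟨[6, 5, 4, 3, 2, 0, 1, 3, 2, 4, 3, 1, 5, 4, 3, 2, 6, 5], 18, 14807321564906431137, [(true, 3), (true, 26), (false, 3), (false, 4), (true, 54), (true, 52), (false, 0)]⟩,
   ⟨[6, 5, 4, 3, 2, 0, 1, 3, 2, 4, 3, 1, 5, 4, 3, 2, 6, 5, 4], 19, 14807321850275144353, [(true, 4), (true, 27), (true, 55), (false, 4), (true, 53), (false, 2), (false, 0)]⟩,
   ⟨[6, 5, 4, 3, 2, 0, 1, 3, 2, 4, 3, 1, 5, 4, 3, 2, 6, 5, 4, 3], 20, 14828237195626128033, [(true, 5), (false, 5), (true, 54), (true, 50), (false, 3), (false, 2), (false, 0)]⟩]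

/-- coset representatives -/
def hrepsa : List HRep :=
  [⟨[7, 6, 5, 4, 3, 2, 1, 3, 4, 5, 6, 0, 2, 3, 4, 5, 1, 3, 4, 2, 3, 0, 2, 1, 3, 4, 5, 6, 7, 6, 5, 4, 3, 2, 1, 3, 4, 5, 6, 0, 2, 3, 4, 5, 1, 3, 4, 2, 3, 0, 2, 1, 3, 4, 5, 6, 7], 1, 11713167200398047489⟩,
   ⟨[], 0, 11713167200398047608⟩]

/-- orbit -/
def orba : List (ℕ × List ℕ) :=
  [(1, [2, 3, 4, 5, 6, 7, 1, 3, 4, 5, 6, 2, 3, 4, 5, 1, 3, 4, 2, 3, 0, 2, 1, 3, 4, 5, 6, 7]),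
   (2, [3, 4, 5, 6, 7, 2, 3, 4, 5, 6, 0, 2, 3, 4, 5, 1, 3, 4, 2, 3, 0, 2, 1, 3, 4, 5, 6, 7]),
   (4, [3, 4, 5, 6, 7, 1, 3, 4, 5, 6, 0, 2, 3, 4, 5, 1, 3, 4, 2, 3, 0, 2, 1, 3, 4, 5, 6, 7]),
   (5, [3, 4, 5, 6, 7, 1, 3, 4, 5, 6, 2, 3, 4, 5, 1, 3, 4, 2, 3, 0, 2, 1, 3, 4, 5, 6, 7]),
   (8, [4, 5, 6, 7, 2, 1, 3, 4, 5, 6, 0, 2, 3, 4, 5, 1, 3, 4, 2, 3, 0, 2, 1, 3, 4, 5, 6, 7]),
   (10, [4, 5, 6, 7, 2, 3, 4, 5, 6, 0, 2, 3, 4, 5, 1, 3, 4, 2, 3, 0, 2, 1, 3, 4, 5, 6, 7]),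
   (12, [4, 5, 6, 7, 1, 3, 4, 5, 6, 0, 2, 3, 4, 5, 1, 3, 4, 2, 3, 0, 2, 1, 3, 4, 5, 6, 7]),
   (13, [4, 5, 6, 7, 1, 3, 4, 5, 6, 2, 3, 4, 5, 1, 3, 4, 2, 3, 0, 2, 1, 3, 4, 5, 6, 7]),
   (14, [4, 5, 6, 7, 3, 4, 5, 6, 0, 2, 3, 4, 5, 1, 3, 4, 2, 3, 0, 2, 1, 3, 4, 5, 6, 7]),
   (15, [4, 5, 6, 7, 3, 4, 5, 6, 2, 3, 4, 5, 1, 3, 4, 2, 3, 0, 2, 1, 3, 4, 5, 6, 7]),
   (16, [5, 6, 7, 3, 2, 1, 3, 4, 5, 6, 0, 2, 3, 4, 5, 1, 3, 4, 2, 3, 0, 2, 1, 3, 4, 5, 6, 7]),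
   (19, [5, 6, 7, 4, 5, 6, 3, 4, 5, 1, 3, 4, 2, 3, 0, 2, 1, 3, 4, 5, 6, 7]),
   (22, [5, 6, 7, 4, 5, 6, 0, 2, 3, 4, 5, 1, 3, 4, 2, 3, 0, 2, 1, 3, 4, 5, 6, 7]),
   (23, [5, 6, 7, 4, 5, 6, 2, 3, 4, 5, 1, 3, 4, 2, 3, 0, 2, 1, 3, 4, 5, 6, 7]),
   (24, [5, 6, 7, 2, 1, 3, 4, 5, 6, 0, 2, 3, 4, 5, 1, 3, 4, 2, 3, 0, 2, 1, 3, 4, 5, 6, 7]),
   (26, [5, 6, 7, 2, 3, 4, 5, 6, 0, 2, 3, 4, 5, 1, 3, 4, 2, 3, 0, 2, 1, 3, 4, 5, 6, 7]),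
   (28, [5, 6, 7, 1, 3, 4, 5, 6, 0, 2, 3, 4, 5, 1, 3, 4, 2, 3, 0, 2, 1, 3, 4, 5, 6, 7]),
   (29, [5, 6, 7, 1, 3, 4, 5, 6, 2, 3, 4, 5, 1, 3, 4, 2, 3, 0, 2, 1, 3, 4, 5, 6, 7]),
   (30, [5, 6, 7, 3, 4, 5, 6, 0, 2, 3, 4, 5, 1, 3, 4, 2, 3, 0, 2, 1, 3, 4, 5, 6, 7]),
   (31, [5, 6, 7, 3, 4, 5, 6, 2, 3, 4, 5, 1, 3, 4, 2, 3, 0, 2, 1, 3, 4, 5, 6, 7]),
   (32, [6, 7, 4, 3, 2, 1, 3, 4, 5, 6, 0, 2, 3, 4, 5, 1, 3, 4, 2, 3, 0, 2, 1, 3, 4, 5, 6, 7]),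
   (35, [6, 7, 5, 6, 3, 4, 5, 1, 3, 4, 2, 3, 0, 2, 1, 3, 4, 5, 6, 7]),
   (38, [6, 7, 5, 6, 0, 2, 3, 4, 5, 1, 3, 4, 2, 3, 0, 2, 1, 3, 4, 5, 6, 7]),
   (39, [6, 7, 5, 6, 2, 3, 4, 5, 1, 3, 4, 2, 3, 0, 2, 1, 3, 4, 5, 6, 7]),
   (41, [6, 7, 5, 6, 4, 5, 3, 4, 2, 3, 0, 2, 1, 3, 4, 5, 6, 7]),
   (43, [6, 7, 5, 6, 4, 5, 1, 3, 4, 2, 3, 0, 2, 1, 3, 4, 5, 6, 7]),
   (48, [6, 7, 3, 2, 1, 3, 4, 5, 6, 0, 2, 3, 4, 5, 1, 3, 4, 2, 3, 0, 2, 1, 3, 4, 5, 6, 7]),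
   (51, [6, 7, 4, 5, 6, 3, 4, 5, 1, 3, 4, 2, 3, 0, 2, 1, 3, 4, 5, 6, 7]),
   (54, [6, 7, 4, 5, 6, 0, 2, 3, 4, 5, 1, 3, 4, 2, 3, 0, 2, 1, 3, 4, 5, 6, 7]),
   (55, [6, 7, 4, 5, 6, 2, 3, 4, 5, 1, 3, 4, 2, 3, 0, 2, 1, 3, 4, 5, 6, 7]),
   (56, [6, 7, 2, 1, 3, 4, 5, 6, 0, 2, 3, 4, 5, 1, 3, 4, 2, 3, 0, 2, 1, 3, 4, 5, 6, 7]),
   (58, [6, 7, 2, 3, 4, 5, 6, 0, 2, 3, 4, 5, 1, 3, 4, 2, 3, 0, 2, 1, 3, 4, 5, 6, 7]),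
   (60, [6, 7, 1, 3, 4, 5, 6, 0, 2, 3, 4, 5, 1, 3, 4, 2, 3, 0, 2, 1, 3, 4, 5, 6, 7]),
   (61, [6, 7, 1, 3, 4, 5, 6, 2, 3, 4, 5, 1, 3, 4, 2, 3, 0, 2, 1, 3, 4, 5, 6, 7]),
   (62, [6, 7, 3, 4, 5, 6, 0, 2, 3, 4, 5, 1, 3, 4, 2, 3, 0, 2, 1, 3, 4, 5, 6, 7]),
   (63, [6, 7, 3, 4, 5, 6, 2, 3, 4, 5, 1, 3, 4, 2, 3, 0, 2, 1, 3, 4, 5, 6, 7]),
   (64, [7, 5, 4, 3, 2, 1, 3, 4, 5, 6, 0, 2, 3, 4, 5, 1, 3, 4, 2, 3, 0, 2, 1, 3, 4, 5, 6, 7]),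
   (67, [7, 6, 3, 4, 5, 1, 3, 4, 2, 3, 0, 2, 1, 3, 4, 5, 6, 7]),
   (70, [7, 6, 0, 2, 3, 4, 5, 1, 3, 4, 2, 3, 0, 2, 1, 3, 4, 5, 6, 7]),
   (71, [7, 6, 2, 3, 4, 5, 1, 3, 4, 2, 3, 0, 2, 1, 3, 4, 5, 6, 7]),
   (73, [7, 6, 4, 5, 3, 4, 2, 3, 0, 2, 1, 3, 4, 5, 6, 7]),
   (75, [7, 6, 4, 5, 1, 3, 4, 2, 3, 0, 2, 1, 3, 4, 5, 6, 7]),
   (81, [7, 6, 5, 4, 2, 3, 0, 2, 1, 3, 4, 5, 6, 7]),
   (82, []),
   (84, [7, 6, 5, 4, 3, 2, 1, 3, 4, 5, 6, 7]),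
   (85, [7, 6, 5, 4, 3, 0, 2, 1, 3, 4, 5, 6, 7]),
   (89, [7, 6, 5, 3, 4, 2, 3, 0, 2, 1, 3, 4, 5, 6, 7]),
   (91, [7, 6, 5, 1, 3, 4, 2, 3, 0, 2, 1, 3, 4, 5, 6, 7]),
   (96, [7, 4, 3, 2, 1, 3, 4, 5, 6, 0, 2, 3, 4, 5, 1, 3, 4, 2, 3, 0, 2, 1, 3, 4, 5, 6, 7]),
   (99, [7, 5, 6, 3, 4, 5, 1, 3, 4, 2, 3, 0, 2, 1, 3, 4, 5, 6, 7]),
   (102, [7, 5, 6, 0, 2, 3, 4, 5, 1, 3, 4, 2, 3, 0, 2, 1, 3, 4, 5, 6, 7]),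
   (103, [7, 5, 6, 2, 3, 4, 5, 1, 3, 4, 2, 3, 0, 2, 1, 3, 4, 5, 6, 7]),
   (105, [7, 5, 6, 4, 5, 3, 4, 2, 3, 0, 2, 1, 3, 4, 5, 6, 7]),
   (107, [7, 5, 6, 4, 5, 1, 3, 4, 2, 3, 0, 2, 1, 3, 4, 5, 6, 7]),
   (112, [7, 3, 2, 1, 3, 4, 5, 6, 0, 2, 3, 4, 5, 1, 3, 4, 2, 3, 0, 2, 1, 3, 4, 5, 6, 7]),
   (115, [7, 4, 5, 6, 3, 4, 5, 1, 3, 4, 2, 3, 0, 2, 1, 3, 4, 5, 6, 7]),
   (118, [7, 4, 5, 6, 0, 2, 3, 4, 5, 1, 3, 4, 2, 3, 0, 2, 1, 3, 4, 5, 6, 7]),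
   (119, [7, 4, 5, 6, 2, 3, 4, 5, 1, 3, 4, 2, 3, 0, 2, 1, 3, 4, 5, 6, 7]),
   (120, [7, 2, 1, 3, 4, 5, 6, 0, 2, 3, 4, 5, 1, 3, 4, 2, 3, 0, 2, 1, 3, 4, 5, 6, 7]),
   (122, [7, 2, 3, 4, 5, 6, 0, 2, 3, 4, 5, 1, 3, 4, 2, 3, 0, 2, 1, 3, 4, 5, 6, 7]),
   (124, [7, 1, 3, 4, 5, 6, 0, 2, 3, 4, 5, 1, 3, 4, 2, 3, 0, 2, 1, 3, 4, 5, 6, 7]),
   (125, [7, 1, 3, 4, 5, 6, 2, 3, 4, 5, 1, 3, 4, 2, 3, 0, 2, 1, 3, 4, 5, 6, 7]),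
   (126, [7, 3, 4, 5, 6, 0, 2, 3, 4, 5, 1, 3, 4, 2, 3, 0, 2, 1, 3, 4, 5, 6, 7]),
   (127, [7, 3, 4, 5, 6, 2, 3, 4, 5, 1, 3, 4, 2, 3, 0, 2, 1, 3, 4, 5, 6, 7]),
   (128, [6, 5, 4, 3, 2, 1, 3, 4, 5, 6, 0, 2, 3, 4, 5, 1, 3, 4, 2, 3, 0, 2, 1, 3, 4, 5, 6, 7]),
   (131, [3, 4, 5, 1, 3, 4, 2, 3, 0, 2, 1, 3, 4, 5, 6, 7]),
   (134, [0, 2, 3, 4, 5, 1, 3, 4, 2, 3, 0, 2, 1, 3, 4, 5, 6, 7]),
   (135, [2, 3, 4, 5, 1, 3, 4, 2, 3, 0, 2, 1, 3, 4, 5, 6, 7]),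
   (137, [4, 5, 3, 4, 2, 3, 0, 2, 1, 3, 4, 5, 6, 7]),
   (139, [4, 5, 1, 3, 4, 2, 3, 0, 2, 1, 3, 4, 5, 6, 7]),
   (145, [5, 4, 2, 3, 0, 2, 1, 3, 4, 5, 6, 7]),
   (146, [6, 7]),
   (148, [5, 4, 3, 2, 1, 3, 4, 5, 6, 7]),
   (149, [5, 4, 3, 0, 2, 1, 3, 4, 5, 6, 7]),
   (153, [5, 3, 4, 2, 3, 0, 2, 1, 3, 4, 5, 6, 7]),
   (155, [5, 1, 3, 4, 2, 3, 0, 2, 1, 3, 4, 5, 6, 7]),
   (161, [2, 3, 0, 2, 1, 3, 4, 5, 6, 7]),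
   (162, [4, 5, 6, 7]),
   (164, [3, 2, 1, 3, 4, 5, 6, 7]),
   (165, [3, 0, 2, 1, 3, 4, 5, 6, 7]),
   (168, [1, 3, 4, 5, 6, 7]),
   (170, [3, 4, 5, 6, 7]),
   (172, [2, 1, 3, 4, 5, 6, 7]),
   (173, [0, 2, 1, 3, 4, 5, 6, 7]),
   (174, [2, 3, 4, 5, 6, 7]),
   (175, [0, 2, 3, 4, 5, 6, 7]),
   (177, [4, 2, 3, 0, 2, 1, 3, 4, 5, 6, 7]),
   (178, [5, 6, 7]),
   (180, [4, 3, 2, 1, 3, 4, 5, 6, 7]),
   (181, [4, 3, 0, 2, 1, 3, 4, 5, 6, 7]),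
   (185, [3, 4, 2, 3, 0, 2, 1, 3, 4, 5, 6, 7]),
   (187, [1, 3, 4, 2, 3, 0, 2, 1, 3, 4, 5, 6, 7]),
   (192, [5, 4, 3, 2, 1, 3, 4, 5, 6, 0, 2, 3, 4, 5, 1, 3, 4, 2, 3, 0, 2, 1, 3, 4, 5, 6, 7]),
   (195, [6, 3, 4, 5, 1, 3, 4, 2, 3, 0, 2, 1, 3, 4, 5, 6, 7]),
   (198, [6, 0, 2, 3, 4, 5, 1, 3, 4, 2, 3, 0, 2, 1, 3, 4, 5, 6, 7]),
   (199, [6, 2, 3, 4, 5, 1, 3, 4, 2, 3, 0, 2, 1, 3, 4, 5, 6, 7]),
   (201, [6, 4, 5, 3, 4, 2, 3, 0, 2, 1, 3, 4, 5, 6, 7]),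
   (203, [6, 4, 5, 1, 3, 4, 2, 3, 0, 2, 1, 3, 4, 5, 6, 7]),
   (209, [6, 5, 4, 2, 3, 0, 2, 1, 3, 4, 5, 6, 7]),
   (210, [7]),
   (212, [6, 5, 4, 3, 2, 1, 3, 4, 5, 6, 7]),
   (213, [6, 5, 4, 3, 0, 2, 1, 3, 4, 5, 6, 7]),
   (217, [6, 5, 3, 4, 2, 3, 0, 2, 1, 3, 4, 5, 6, 7]),
   (219, [6, 5, 1, 3, 4, 2, 3, 0, 2, 1, 3, 4, 5, 6, 7]),
   (224, [4, 3, 2, 1, 3, 4, 5, 6, 0, 2, 3, 4, 5, 1, 3, 4, 2, 3, 0, 2, 1, 3, 4, 5, 6, 7]),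
   (227, [5, 6, 3, 4, 5, 1, 3, 4, 2, 3, 0, 2, 1, 3, 4, 5, 6, 7]),
   (230, [5, 6, 0, 2, 3, 4, 5, 1, 3, 4, 2, 3, 0, 2, 1, 3, 4, 5, 6, 7]),
   (231, [5, 6, 2, 3, 4, 5, 1, 3, 4, 2, 3, 0, 2, 1, 3, 4, 5, 6, 7]),
   (233, [5, 6, 4, 5, 3, 4, 2, 3, 0, 2, 1, 3, 4, 5, 6, 7]),
   (235, [5, 6, 4, 5, 1, 3, 4, 2, 3, 0, 2, 1, 3, 4, 5, 6, 7]),
   (240, [3, 2, 1, 3, 4, 5, 6, 0, 2, 3, 4, 5, 1, 3, 4, 2, 3, 0, 2, 1, 3, 4, 5, 6, 7]),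
   (243, [4, 5, 6, 3, 4, 5, 1, 3, 4, 2, 3, 0, 2, 1, 3, 4, 5, 6, 7]),
   (246, [4, 5, 6, 0, 2, 3, 4, 5, 1, 3, 4, 2, 3, 0, 2, 1, 3, 4, 5, 6, 7]),
   (247, [4, 5, 6, 2, 3, 4, 5, 1, 3, 4, 2, 3, 0, 2, 1, 3, 4, 5, 6, 7]),
   (248, [2, 1, 3, 4, 5, 6, 0, 2, 3, 4, 5, 1, 3, 4, 2, 3, 0, 2, 1, 3, 4, 5, 6, 7]),
   (250, [2, 3, 4, 5, 6, 0, 2, 3, 4, 5, 1, 3, 4, 2, 3, 0, 2, 1, 3, 4, 5, 6, 7]),
   (252, [1, 3, 4, 5, 6, 0, 2, 3, 4, 5, 1, 3, 4, 2, 3, 0, 2, 1, 3, 4, 5, 6, 7]),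
   (253, [1, 3, 4, 5, 6, 2, 3, 4, 5, 1, 3, 4, 2, 3, 0, 2, 1, 3, 4, 5, 6, 7]),
   (254, [3, 4, 5, 6, 0, 2, 3, 4, 5, 1, 3, 4, 2, 3, 0, 2, 1, 3, 4, 5, 6, 7]),
   (255, [3, 4, 5, 6, 2, 3, 4, 5, 1, 3, 4, 2, 3, 0, 2, 1, 3, 4, 5, 6, 7])]

/-- certificate -/
def certa : Cert :=
  ⟨82, [0, 2, 3, 1, 4, 5, 6], [(0, repsa0), (2, repsa1), (3, repsa2), (1, repsa3), (4, repsa4), (5, repsa5), (6, repsa6)], hrepsa, orba, [2, 2, 6, 8, 10, 12, 14, 18], 64⟩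

theorem stepa0 : E8Data.tab.checkStep [] [0] repsa0 = true := by decide +kernel

theorem stepa1 : E8Data.tab.checkStep [0] [0, 2] repsa1 = true := by decide +kernel

theorem stepa2 : E8Data.tab.checkStep [0, 2] [0, 2, 3] repsa2 = true := by decide +kernel

theorem stepa3 : E8Data.tab.checkStep [0, 2, 3] [0, 2, 3, 1] repsa3 = true := by decide +kernel

theorem stepa4 : E8Data.tab.checkStep [0, 2, 3, 1] [0, 2, 3, 1, 4] repsa4 = true := by decide +kernel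

theorem stepa5 : E8Data.tab.checkStep [0, 2, 3, 1, 4] [0, 2, 3, 1, 4, 5] repsa5 = true := by decide +kernel

theorem stepa6 : E8Data.tab.checkStep [0, 2, 3, 1, 4, 5] [0, 2, 3, 1, 4, 5, 6] repsa6 = true := by decide +kernel

/-- representatives -/
def repsb0 : List Tab.Rep :=
  [⟨[1], 1, 11701063827939096952, [(true, 1)]⟩,
   ⟨[], 0, 11713167200398047608, [(true, 0)]⟩]

/-- representatives -/
def repsb1 : List Tab.Rep :=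
  [⟨[3, 1], 2, 11700783448262932856, [(true, 2), (false, 1)]⟩,
   ⟨[], 0, 11713167200398047608, [(false, 1), (true, 2)]⟩,
   ⟨[3], 1, 11713449684775958904, [(true, 0), (true, 1)]⟩]

/-- representatives -/
def repsb2 : List Tab.Rep :=
  [⟨[], 0, 11713167200398047608, [(false, 1), (false, 3), (true, 2)]⟩,
   ⟨[2, 3, 1], 3, 11771427070448204152, [(true, 3), (false, 1), (false, 3)]⟩,
   ⟨[2], 1, 11785190735345318264, [(false, 1), (true, 3), (true, 0)]⟩,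
   ⟨[2, 3], 2, 11786908030958532984, [(true, 1), (true, 2), (false, 3)]⟩]

/-- representatives -/
def repsb3 : List Tab.Rep :=
  [⟨[4, 3, 1], 3, 11700503072781334904, [(true, 3), (false, 1), (true, 4), (false, 3)]⟩,
   ⟨[], 0, 11713167200398047608, [(false, 1), (false, 3), (false, 2), (true, 2)]⟩,
   ⟨[4], 1, 11713167204475173240, [(false, 1), (true, 3), (false, 2), (true, 1)]⟩,
   ⟨[4, 3], 2, 11713732254952814968, [(true, 0), (true, 2), (true, 7), (false, 3)]⟩,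
   ⟨[4, 3, 1, 2], 4, 11916637402052917624, [(true, 7), (true, 5), (true, 0), (false, 3)]⟩,
   ⟨[4, 3, 1, 2, 3], 5, 11927657562654079352, [(false, 2), (true, 4), (false, 1), (true, 6)]⟩,
   ⟨[4, 3, 1, 2, 3, 4], 6, 11927657729069185400, [(false, 2), (false, 3), (false, 1), (true, 5)]⟩,
   ⟨[4, 3, 2], 3, 11929866670123743608, [(true, 4), (false, 2), (true, 3), (false, 3)]⟩]

/-- representatives -/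
def repsb4 : List Tab.Rep :=
  [⟨[5, 4, 3, 1], 4, 11700222697316187256, [(true, 4), (false, 1), (true, 5), (false, 3), (false, 4)]⟩,
   ⟨[], 0, 11713167200398047608, [(false, 1), (false, 3), (false, 2), (false, 4), (true, 2)]⟩,
   ⟨[5], 1, 11713167200414366840, [(false, 1), (false, 3), (false, 2), (true, 3), (true, 1)]⟩,
   ⟨[5, 4], 2, 11713167208753298552, [(false, 1), (true, 4), (false, 2), (true, 2), (false, 4)]⟩,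
   ⟨[5, 4, 3], 3, 11714014825146121336, [(true, 0), (true, 3), (true, 9), (false, 3), (false, 4)]⟩,
   ⟨[5, 4, 3, 1, 2], 5, 11988412425897409656, [(true, 9), (true, 6), (true, 0), (false, 3), (false, 4)]⟩,
   ⟨[5, 4, 3, 1, 2, 3], 6, 11999715152413752440, [(false, 2), (true, 5), (false, 1), (true, 7), (false, 4)]⟩,
   ⟨[5, 4, 3, 1, 2, 3, 4], 7, 11999715323090336888, [(false, 2), (false, 3), (false, 1), (true, 6), (true, 8)]⟩,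
   ⟨[5, 4, 3, 1, 2, 3, 4, 5], 8, 11999715323756650360, [(false, 2), (false, 3), (false, 1), (false, 4), (true, 7)]⟩,
   ⟨[5, 4, 3, 2], 4, 12002204639626689656, [(true, 5), (false, 2), (true, 4), (false, 3), (false, 4)]⟩]

/-- representatives -/
def repsb5 : List Tab.Rep :=
  [⟨[6, 5, 4, 3, 1], 5, 11699942321851104122, [(true, 5), (false, 1), (true, 6), (false, 3), (false, 4), (false, 5)]⟩,
   ⟨[], 0, 11713167200398047608, [(false, 1), (false, 3), (false, 2), (false, 4), (false, 5), (true, 2)]⟩,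
   ⟨[6], 1, 11713167200398112378, [(false, 1), (false, 3), (false, 2), (false, 4), (true, 3), (true, 1)]⟩,
   ⟨[6, 5], 2, 11713167200431078266, [(false, 1), (false, 3), (false, 2), (true, 4), (true, 2), (false, 5)]⟩,
   ⟨[6, 5, 4], 3, 11713167213031488378, [(false, 1), (true, 5), (false, 2), (true, 3), (false, 4), (false, 5)]⟩,
   ⟨[6, 5, 4, 3], 4, 11714297395339492218, [(true, 0), (true, 4), (true, 11), (false, 3), (false, 4), (false, 5)]⟩,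
   ⟨[6, 5, 4, 3, 1, 2], 6, 12060187449741966202, [(true, 11), (true, 7), (true, 0), (false, 3), (false, 4), (false, 5)]⟩,
   ⟨[6, 5, 4, 3, 1, 2, 3], 7, 12071772742173490042, [(false, 2), (true, 6), (false, 1), (true, 8), (false, 4), (false, 5)]⟩,
   ⟨[6, 5, 4, 3, 1, 2, 3, 4], 8, 12071772917111552890, [(false, 2), (false, 3), (false, 1), (true, 7), (true, 9), (false, 5)]⟩,
   ⟨[6, 5, 4, 3, 1, 2, 3, 4, 5], 9, 12071772917794512762, [(false, 2), (false, 3), (false, 1), (false, 4), (true, 8), (true, 10)]⟩,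
   ⟨[6, 5, 4, 3, 1, 2, 3, 4, 5, 6], 10, 12071772917797179553, [(false, 2), (false, 3), (false, 1), (false, 4), (false, 5), (true, 9)]⟩,
   ⟨[6, 5, 4, 3, 2], 5, 12074542609129700218, [(true, 6), (false, 2), (true, 5), (false, 3), (false, 4), (false, 5)]⟩]

/-- representatives -/
def repsb6 : List Tab.Rep :=
  [⟨[7, 6, 5, 4, 3, 1], 6, 11699661946386021241, [(true, 6), (false, 1), (true, 7), (false, 3), (false, 4), (false, 5), (false, 6)]⟩,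
   ⟨[], 0, 11713167200398047608, [(false, 1), (false, 3), (false, 2), (false, 4), (false, 5), (false, 6), (true, 2)]⟩,
   ⟨[7], 1, 11713167200398047863, [(false, 1), (false, 3), (false, 2), (false, 4), (false, 5), (true, 3), (true, 1)]⟩,
   ⟨[7, 6], 2, 11713167200398177657, [(false, 1), (false, 3), (false, 2), (false, 4), (true, 4), (true, 2), (false, 6)]⟩,
   ⟨[7, 6, 5], 3, 11713167200447789945, [(false, 1), (false, 3), (false, 2), (true, 5), (true, 3), (false, 5), (false, 6)]⟩,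
   ⟨[7, 6, 5, 4], 4, 11713167217309678457, [(false, 1), (true, 6), (false, 2), (true, 4), (false, 4), (false, 5), (false, 6)]⟩,
   ⟨[7, 6, 5, 4, 3], 5, 11714579965532863353, [(true, 0), (true, 5), (true, 13), (false, 3), (false, 4), (false, 5), (false, 6)]⟩,
   ⟨[7, 6, 5, 4, 3, 1, 2], 7, 12131962473586523001, [(true, 13), (true, 8), (true, 0), (false, 3), (false, 4), (false, 5), (false, 6)]⟩,
   ⟨[7, 6, 5, 4, 3, 1, 2, 3], 8, 12143830331933227897, [(false, 2), (true, 7), (false, 1), (true, 9), (false, 4), (false, 5), (false, 6)]⟩,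
   ⟨[7, 6, 5, 4, 3, 1, 2, 3, 4], 9, 12143830511132769145, [(false, 2), (false, 3), (false, 1), (true, 8), (true, 10), (false, 5), (false, 6)]⟩,
   ⟨[7, 6, 5, 4, 3, 1, 2, 3, 4, 5], 10, 12143830511832375417, [(false, 2), (false, 3), (false, 1), (false, 4), (true, 9), (true, 11), (false, 6)]⟩,
   ⟨[7, 6, 5, 4, 3, 1, 2, 3, 4, 5, 6], 11, 12143830511835107233, [(false, 2), (false, 3), (false, 1), (false, 4), (false, 5), (true, 10), (true, 12)]⟩,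
   ⟨[7, 6, 5, 4, 3, 1, 2, 3, 4, 5, 6, 7], 12, 12143830511835117902, [(false, 2), (false, 3), (false, 1), (false, 4), (false, 5), (false, 6), (true, 11)]⟩,
   ⟨[7, 6, 5, 4, 3, 2], 6, 12146880578632711033, [(true, 7), (false, 2), (true, 6), (false, 3), (false, 4), (false, 5), (false, 6)]⟩]

/-- coset representatives -/
def hrepsb : List HRep :=
  [⟨[0, 2, 3, 4, 5, 1, 3, 4, 2, 3, 0, 2, 1, 3, 4, 5, 6, 7, 5, 4, 3, 2, 1, 3, 4, 5, 6, 0, 2, 3, 4, 5, 1, 3, 4, 2, 3, 0, 2, 1, 3, 4, 5, 6, 7, 0, 2, 3, 4, 5, 1, 3, 4, 2, 3, 0, 2, 1, 3, 4, 5, 6, 5, 4, 3, 2, 1, 3, 4, 5, 0, 2, 3, 4, 1, 3, 2, 0], 14, 1046961029994215800⟩,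
   ⟨[0, 2, 3, 4, 5, 1, 3, 4, 2, 3, 0, 2, 1, 3, 4, 5, 6, 7, 5, 4, 3, 2, 1, 3, 4, 5, 6, 0, 2, 3, 4, 5, 1, 3, 4, 2, 3, 1, 0], 7, 1443096425096182649⟩,
   ⟨[0, 2, 3, 4, 5, 1, 3, 4, 2, 3, 0, 2, 1, 3, 4, 5, 6, 5, 4, 3, 2, 1, 3, 4, 5, 0, 2, 3, 4, 1, 3, 2, 0], 1, 1480988847012280803⟩,
   ⟨[0, 2, 3, 4, 5, 1, 3, 4, 2, 3, 0, 2, 1, 3, 4, 5, 6, 7, 5, 4, 3, 2, 1, 3, 4, 5, 0, 2, 3, 4, 1, 3, 2, 0], 2, 1480988847012307980⟩,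
   ⟨[0, 2, 3, 4, 5, 1, 3, 4, 2, 3, 0, 2, 1, 3, 4, 5, 6, 7, 5, 4, 3, 2, 1, 3, 4, 5, 6, 0, 2, 3, 4, 1, 3, 2, 0], 3, 1480988847019199353⟩,
   ⟨[0, 2, 3, 4, 5, 1, 3, 4, 2, 3, 0, 2, 1, 3, 4, 5, 6, 7, 5, 4, 3, 2, 1, 3, 4, 5, 6, 0, 2, 3, 4, 5, 1, 3, 2, 0], 4, 1480988848749706105⟩,
   ⟨[0, 2, 3, 4, 5, 1, 3, 4, 2, 3, 0, 2, 1, 3, 4, 5, 6, 7, 5, 4, 3, 2, 1, 3, 4, 5, 6, 0, 2, 3, 4, 5, 1, 3, 4, 2, 0], 5, 1480989278841240441⟩,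
   ⟨[0, 2, 3, 4, 5, 1, 3, 4, 2, 3, 0, 2, 1, 3, 4, 5, 6, 7, 5, 4, 3, 2, 1, 3, 4, 5, 6, 0, 2, 3, 4, 5, 1, 3, 4, 2, 3, 0], 6, 1506990673578851193⟩,
   ⟨[], 0, 11713167200398047608⟩,
   ⟨[0, 2, 3, 4, 5, 1, 3, 4, 2, 3, 0, 2, 1, 3, 4, 5, 6, 7, 5, 4, 3, 2, 1, 3, 4, 5, 6, 0, 2, 3, 4, 5, 1, 3, 4, 2, 3, 0, 2, 1], 8, 12107373352025226105⟩,
   ⟨[0, 2, 3, 4, 5, 1, 3, 4, 2, 3, 0, 2, 1, 3, 4, 5, 6, 7, 5, 4, 3, 2, 1, 3, 4, 5, 6, 0, 2, 3, 4, 5, 1, 3, 4, 2, 3, 0, 2, 1, 3], 9, 12143829976793119609⟩,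
   ⟨[0, 2, 3, 4, 5, 1, 3, 4, 2, 3, 0, 2, 1, 3, 4, 5, 6, 7, 5, 4, 3, 2, 1, 3, 4, 5, 6, 0, 2, 3, 4, 5, 1, 3, 4, 2, 3, 0, 2, 1, 3, 4], 10, 12143830509795703673⟩,
   ⟨[0, 2, 3, 4, 5, 1, 3, 4, 2, 3, 0, 2, 1, 3, 4, 5, 6, 7, 5, 4, 3, 2, 1, 3, 4, 5, 6, 0, 2, 3, 4, 5, 1, 3, 4, 2, 3, 0, 2, 1, 3, 4, 5], 11, 12143830511827283321⟩,
   ⟨[0, 2, 3, 4, 5, 1, 3, 4, 2, 3, 0, 2, 1, 3, 4, 5, 6, 7, 5, 4, 3, 2, 1, 3, 4, 5, 6, 0, 2, 3, 4, 5, 1, 3, 4, 2, 3, 0, 2, 1, 3, 4, 5, 6], 12, 12143830511835087598⟩,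
   ⟨[0, 2, 3, 4, 5, 1, 3, 4, 2, 3, 0, 2, 1, 3, 4, 5, 6, 7, 5, 4, 3, 2, 1, 3, 4, 5, 6, 0, 2, 3, 4, 5, 1, 3, 4, 2, 3, 0, 2, 1, 3, 4, 5, 6, 7], 13, 12143830511835117825⟩,
   ⟨[0, 2, 3, 4, 5, 1, 3, 4, 2, 3, 0, 2, 1, 3, 4, 5, 6, 7, 5, 4, 3, 2, 1, 3, 4, 5, 6, 0, 2, 3, 4, 5, 1, 3, 4, 2, 3, 0, 2], 7, 12171267746536782713⟩]

/-- orbit -/
def orbb : List (ℕ × List ℕ) :=
  [(3, [2, 0]),
   (6, []),
   (7, [0]),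
   (9, [1, 3, 2, 0]),
   (11, [3, 2, 0]),
   (17, [3, 4, 1, 3, 2, 0]),
   (18, [5, 4, 3, 2, 1, 3, 4, 5, 0, 2, 3, 4, 1, 3, 2, 0]),
   (20, [0, 2, 3, 4, 1, 3, 2, 0]),
   (21, [2, 3, 4, 1, 3, 2, 0]),
   (25, [4, 1, 3, 2, 0]),
   (27, [4, 3, 2, 0]),
   (33, [4, 5, 3, 4, 1, 3, 2, 0]),
   (34, [3, 2, 1, 3, 4, 5, 0, 2, 3, 4, 1, 3, 2, 0]),
   (36, [4, 5, 0, 2, 3, 4, 1, 3, 2, 0]),
   (37, [4, 5, 2, 3, 4, 1, 3, 2, 0]),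
   (40, [2, 3, 4, 5, 0, 2, 3, 4, 1, 3, 2, 0]),
   (42, [2, 1, 3, 4, 5, 0, 2, 3, 4, 1, 3, 2, 0]),
   (44, [3, 4, 5, 0, 2, 3, 4, 1, 3, 2, 0]),
   (45, [3, 4, 5, 2, 3, 4, 1, 3, 2, 0]),
   (46, [1, 3, 4, 5, 0, 2, 3, 4, 1, 3, 2, 0]),
   (47, [1, 3, 4, 5, 2, 3, 4, 1, 3, 2, 0]),
   (49, [5, 3, 4, 1, 3, 2, 0]),
   (50, [4, 3, 2, 1, 3, 4, 5, 0, 2, 3, 4, 1, 3, 2, 0]),
   (52, [5, 0, 2, 3, 4, 1, 3, 2, 0]),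
   (53, [5, 2, 3, 4, 1, 3, 2, 0]),
   (57, [5, 4, 1, 3, 2, 0]),
   (59, [5, 4, 3, 2, 0]),
   (65, [5, 6, 4, 5, 3, 4, 1, 3, 2, 0]),
   (66, [5, 6, 3, 2, 1, 3, 4, 5, 0, 2, 3, 4, 1, 3, 2, 0]),
   (68, [5, 6, 4, 5, 0, 2, 3, 4, 1, 3, 2, 0]),
   (69, [5, 6, 4, 5, 2, 3, 4, 1, 3, 2, 0]),
   (72, [5, 6, 2, 3, 4, 5, 0, 2, 3, 4, 1, 3, 2, 0]),
   (74, [5, 6, 2, 1, 3, 4, 5, 0, 2, 3, 4, 1, 3, 2, 0]),
   (76, [5, 6, 3, 4, 5, 0, 2, 3, 4, 1, 3, 2, 0]),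
   (77, [5, 6, 3, 4, 5, 2, 3, 4, 1, 3, 2, 0]),
   (78, [5, 6, 1, 3, 4, 5, 0, 2, 3, 4, 1, 3, 2, 0]),
   (79, [5, 6, 1, 3, 4, 5, 2, 3, 4, 1, 3, 2, 0]),
   (80, [3, 4, 5, 6, 2, 3, 4, 5, 0, 2, 3, 4, 1, 3, 2, 0]),
   (83, [2, 3, 4, 5, 6, 1, 3, 4, 5, 2, 3, 4, 1, 3, 2, 0]),
   (86, [3, 4, 5, 6, 1, 3, 4, 5, 0, 2, 3, 4, 1, 3, 2, 0]),
   (87, [3, 4, 5, 6, 1, 3, 4, 5, 2, 3, 4, 1, 3, 2, 0]),
   (88, [4, 5, 6, 2, 3, 4, 5, 0, 2, 3, 4, 1, 3, 2, 0]),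
   (90, [4, 5, 6, 2, 1, 3, 4, 5, 0, 2, 3, 4, 1, 3, 2, 0]),
   (92, [4, 5, 6, 3, 4, 5, 0, 2, 3, 4, 1, 3, 2, 0]),
   (93, [4, 5, 6, 3, 4, 5, 2, 3, 4, 1, 3, 2, 0]),
   (94, [4, 5, 6, 1, 3, 4, 5, 0, 2, 3, 4, 1, 3, 2, 0]),
   (95, [4, 5, 6, 1, 3, 4, 5, 2, 3, 4, 1, 3, 2, 0]),
   (97, [6, 4, 5, 3, 4, 1, 3, 2, 0]),
   (98, [6, 3, 2, 1, 3, 4, 5, 0, 2, 3, 4, 1, 3, 2, 0]),
   (100, [6, 4, 5, 0, 2, 3, 4, 1, 3, 2, 0]),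
   (101, [6, 4, 5, 2, 3, 4, 1, 3, 2, 0]),
   (104, [6, 2, 3, 4, 5, 0, 2, 3, 4, 1, 3, 2, 0]),
   (106, [6, 2, 1, 3, 4, 5, 0, 2, 3, 4, 1, 3, 2, 0]),
   (108, [6, 3, 4, 5, 0, 2, 3, 4, 1, 3, 2, 0]),
   (109, [6, 3, 4, 5, 2, 3, 4, 1, 3, 2, 0]),
   (110, [6, 1, 3, 4, 5, 0, 2, 3, 4, 1, 3, 2, 0]),
   (111, [6, 1, 3, 4, 5, 2, 3, 4, 1, 3, 2, 0]),
   (113, [6, 5, 3, 4, 1, 3, 2, 0]),
   (114, [6, 4, 3, 2, 1, 3, 4, 5, 0, 2, 3, 4, 1, 3, 2, 0]),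
   (116, [6, 5, 0, 2, 3, 4, 1, 3, 2, 0]),
   (117, [6, 5, 2, 3, 4, 1, 3, 2, 0]),
   (121, [6, 5, 4, 1, 3, 2, 0]),
   (123, [6, 5, 4, 3, 2, 0]),
   (129, [6, 7, 5, 6, 4, 5, 3, 4, 1, 3, 2, 0]),
   (130, [6, 7, 5, 6, 3, 2, 1, 3, 4, 5, 0, 2, 3, 4, 1, 3, 2, 0]),
   (132, [6, 7, 5, 6, 4, 5, 0, 2, 3, 4, 1, 3, 2, 0]),
   (133, [6, 7, 5, 6, 4, 5, 2, 3, 4, 1, 3, 2, 0]),
   (136, [6, 7, 5, 6, 2, 3, 4, 5, 0, 2, 3, 4, 1, 3, 2, 0]),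
   (138, [6, 7, 5, 6, 2, 1, 3, 4, 5, 0, 2, 3, 4, 1, 3, 2, 0]),
   (140, [6, 7, 5, 6, 3, 4, 5, 0, 2, 3, 4, 1, 3, 2, 0]),
   (141, [6, 7, 5, 6, 3, 4, 5, 2, 3, 4, 1, 3, 2, 0]),
   (142, [6, 7, 5, 6, 1, 3, 4, 5, 0, 2, 3, 4, 1, 3, 2, 0]),
   (143, [6, 7, 5, 6, 1, 3, 4, 5, 2, 3, 4, 1, 3, 2, 0]),
   (144, [6, 7, 3, 4, 5, 6, 2, 3, 4, 5, 0, 2, 3, 4, 1, 3, 2, 0]),
   (147, [6, 7, 2, 3, 4, 5, 6, 1, 3, 4, 5, 2, 3, 4, 1, 3, 2, 0]),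
   (150, [6, 7, 3, 4, 5, 6, 1, 3, 4, 5, 0, 2, 3, 4, 1, 3, 2, 0]),
   (151, [6, 7, 3, 4, 5, 6, 1, 3, 4, 5, 2, 3, 4, 1, 3, 2, 0]),
   (152, [6, 7, 4, 5, 6, 2, 3, 4, 5, 0, 2, 3, 4, 1, 3, 2, 0]),
   (154, [6, 7, 4, 5, 6, 2, 1, 3, 4, 5, 0, 2, 3, 4, 1, 3, 2, 0]),
   (156, [6, 7, 4, 5, 6, 3, 4, 5, 0, 2, 3, 4, 1, 3, 2, 0]),
   (157, [6, 7, 4, 5, 6, 3, 4, 5, 2, 3, 4, 1, 3, 2, 0]),
   (158, [6, 7, 4, 5, 6, 1, 3, 4, 5, 0, 2, 3, 4, 1, 3, 2, 0]),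
   (159, [6, 7, 4, 5, 6, 1, 3, 4, 5, 2, 3, 4, 1, 3, 2, 0]),
   (160, [4, 5, 6, 7, 3, 4, 5, 6, 2, 3, 4, 5, 0, 2, 3, 4, 1, 3, 2, 0]),
   (163, [4, 5, 6, 7, 2, 3, 4, 5, 6, 1, 3, 4, 5, 2, 3, 4, 1, 3, 2, 0]),
   (166, [4, 5, 6, 7, 3, 4, 5, 6, 1, 3, 4, 5, 0, 2, 3, 4, 1, 3, 2, 0]),
   (167, [4, 5, 6, 7, 3, 4, 5, 6, 1, 3, 4, 5, 2, 3, 4, 1, 3, 2, 0]),
   (169, [1, 3, 4, 5, 6, 7, 2, 3, 4, 5, 6, 1, 3, 4, 5, 2, 3, 4, 1, 3, 2, 0]),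
   (171, [3, 4, 5, 6, 7, 2, 3, 4, 5, 6, 1, 3, 4, 5, 2, 3, 4, 1, 3, 2, 0]),
   (176, [5, 6, 7, 3, 4, 5, 6, 2, 3, 4, 5, 0, 2, 3, 4, 1, 3, 2, 0]),
   (179, [5, 6, 7, 2, 3, 4, 5, 6, 1, 3, 4, 5, 2, 3, 4, 1, 3, 2, 0]),
   (182, [5, 6, 7, 3, 4, 5, 6, 1, 3, 4, 5, 0, 2, 3, 4, 1, 3, 2, 0]),
   (183, [5, 6, 7, 3, 4, 5, 6, 1, 3, 4, 5, 2, 3, 4, 1, 3, 2, 0]),
   (184, [5, 6, 7, 4, 5, 6, 2, 3, 4, 5, 0, 2, 3, 4, 1, 3, 2, 0]),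
   (186, [5, 6, 7, 4, 5, 6, 2, 1, 3, 4, 5, 0, 2, 3, 4, 1, 3, 2, 0]),
   (188, [5, 6, 7, 4, 5, 6, 3, 4, 5, 0, 2, 3, 4, 1, 3, 2, 0]),
   (189, [5, 6, 7, 4, 5, 6, 3, 4, 5, 2, 3, 4, 1, 3, 2, 0]),
   (190, [5, 6, 7, 4, 5, 6, 1, 3, 4, 5, 0, 2, 3, 4, 1, 3, 2, 0]),
   (191, [5, 6, 7, 4, 5, 6, 1, 3, 4, 5, 2, 3, 4, 1, 3, 2, 0]),
   (193, [7, 5, 6, 4, 5, 3, 4, 1, 3, 2, 0]),
   (194, [7, 5, 6, 3, 2, 1, 3, 4, 5, 0, 2, 3, 4, 1, 3, 2, 0]),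
   (196, [7, 5, 6, 4, 5, 0, 2, 3, 4, 1, 3, 2, 0]),
   (197, [7, 5, 6, 4, 5, 2, 3, 4, 1, 3, 2, 0]),
   (200, [7, 5, 6, 2, 3, 4, 5, 0, 2, 3, 4, 1, 3, 2, 0]),
   (202, [7, 5, 6, 2, 1, 3, 4, 5, 0, 2, 3, 4, 1, 3, 2, 0]),
   (204, [7, 5, 6, 3, 4, 5, 0, 2, 3, 4, 1, 3, 2, 0]),
   (205, [7, 5, 6, 3, 4, 5, 2, 3, 4, 1, 3, 2, 0]),
   (206, [7, 5, 6, 1, 3, 4, 5, 0, 2, 3, 4, 1, 3, 2, 0]),
   (207, [7, 5, 6, 1, 3, 4, 5, 2, 3, 4, 1, 3, 2, 0]),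
   (208, [7, 3, 4, 5, 6, 2, 3, 4, 5, 0, 2, 3, 4, 1, 3, 2, 0]),
   (211, [7, 2, 3, 4, 5, 6, 1, 3, 4, 5, 2, 3, 4, 1, 3, 2, 0]),
   (214, [7, 3, 4, 5, 6, 1, 3, 4, 5, 0, 2, 3, 4, 1, 3, 2, 0]),
   (215, [7, 3, 4, 5, 6, 1, 3, 4, 5, 2, 3, 4, 1, 3, 2, 0]),
   (216, [7, 4, 5, 6, 2, 3, 4, 5, 0, 2, 3, 4, 1, 3, 2, 0]),
   (218, [7, 4, 5, 6, 2, 1, 3, 4, 5, 0, 2, 3, 4, 1, 3, 2, 0]),
   (220, [7, 4, 5, 6, 3, 4, 5, 0, 2, 3, 4, 1, 3, 2, 0]),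
   (221, [7, 4, 5, 6, 3, 4, 5, 2, 3, 4, 1, 3, 2, 0]),
   (222, [7, 4, 5, 6, 1, 3, 4, 5, 0, 2, 3, 4, 1, 3, 2, 0]),
   (223, [7, 4, 5, 6, 1, 3, 4, 5, 2, 3, 4, 1, 3, 2, 0]),
   (225, [7, 6, 4, 5, 3, 4, 1, 3, 2, 0]),
   (226, [7, 6, 3, 2, 1, 3, 4, 5, 0, 2, 3, 4, 1, 3, 2, 0]),
   (228, [7, 6, 4, 5, 0, 2, 3, 4, 1, 3, 2, 0]),
   (229, [7, 6, 4, 5, 2, 3, 4, 1, 3, 2, 0]),
   (232, [7, 6, 2, 3, 4, 5, 0, 2, 3, 4, 1, 3, 2, 0]),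
   (234, [7, 6, 2, 1, 3, 4, 5, 0, 2, 3, 4, 1, 3, 2, 0]),
   (236, [7, 6, 3, 4, 5, 0, 2, 3, 4, 1, 3, 2, 0]),
   (237, [7, 6, 3, 4, 5, 2, 3, 4, 1, 3, 2, 0]),
   (238, [7, 6, 1, 3, 4, 5, 0, 2, 3, 4, 1, 3, 2, 0]),
   (239, [7, 6, 1, 3, 4, 5, 2, 3, 4, 1, 3, 2, 0]),
   (241, [7, 6, 5, 3, 4, 1, 3, 2, 0]),
   (242, [7, 6, 4, 3, 2, 1, 3, 4, 5, 0, 2, 3, 4, 1, 3, 2, 0]),
   (244, [7, 6, 5, 0, 2, 3, 4, 1, 3, 2, 0]),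
   (245, [7, 6, 5, 2, 3, 4, 1, 3, 2, 0]),
   (249, [7, 6, 5, 4, 1, 3, 2, 0]),
   (251, [7, 6, 5, 4, 3, 2, 0])]

/-- certificate -/
def certb : Cert :=
  ⟨6, [1, 3, 2, 4, 5, 6, 7], [(1, repsb0), (3, repsb1), (2, repsb2), (4, repsb3), (5, repsb4), (6, repsb5), (7, repsb6)], hrepsb, orbb, [2, 4, 6, 8, 10, 12, 14, 8], 56⟩

theorem stepb0 : E8Data.tab.checkStep [] [1] repsb0 = true := by decide +kernel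

theorem stepb1 : E8Data.tab.checkStep [1] [1, 3] repsb1 = true := by decide +kernel

theorem stepb2 : E8Data.tab.checkStep [1, 3] [1, 3, 2] repsb2 = true := by decide +kernel

theorem stepb3 : E8Data.tab.checkStep [1, 3, 2] [1, 3, 2, 4] repsb3 = true := by decide +kernel

theorem stepb4 : E8Data.tab.checkStep [1, 3, 2, 4] [1, 3, 2, 4, 5] repsb4 = true := by decide +kernel

theorem stepb5 : E8Data.tab.checkStep [1, 3, 2, 4, 5] [1, 3, 2, 4, 5, 6] repsb5 = true := by decide +kernel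

theorem stepb6 : E8Data.tab.checkStep [1, 3, 2, 4, 5, 6] [1, 3, 2, 4, 5, 6, 7] repsb6 = true := by decide +kernel

end Cfsg.Agent.ChevOdd.E8
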