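import Cfsg.Agent.Lib.ChevOdd.Main
import Cfsg.Agent.Lib.ChevOdd.DataE8

/-! The checked certificates of E8. -/

set_option autoImplicit false
set_option maxRecDepth 20000

namespace Cfsg.Agent.ChevOdd.E8

open Cfsg.Lie Cfsg.Agent.Chev Cfsg.Agent.ChevOdd

/-- coefficient forms -/
def forms : List (List ℕ) := [[4, 5, 7, 10, 8, 6, 4, 2], [5, 8, 10, 15, 12, 9, 6, 3], [7, 10, 14, 20, 16, 12, 8, 4], [10, 15, 20, 30, 24, 18, 12, 6], [8, 12, 16, 24, 20, 15, 10, 5], [6, 9, 12, 18, 15, 12, 8, 4], [4, 6, 8, 12, 10, 8, 6, 3], [2, 3, 4, 6, 5, 4, 3, 2]]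

theorem goodK : E8Data.tab.GoodK forms := ⟨⟨E8Data.good, by decide +kernel⟩, by decide +kernel⟩

theorem pairs : checkPairs E8Data.tab = true := by decide +kernel

theorem stepsa : checkChainTo E8Data.tab certa.J [] certa.steps = true := by
  simp only [certa, checkChainTo, List.nil_append, List.cons_append, Bool.and_eq_true]
  exact ⟨stepa0, stepa1, stepa2, stepa3, stepa4, stepa5, stepa6, by decide +kernel⟩

theorem oka : certa.OK E8Data.tab forms E8Data.steps where
  goodK := goodK
  inv := ⟨E8Data.cert.M, by decide +kernel⟩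
  chain := E8Data.chainOK
  jOK := by decide +kernel
  stepsOK := stepsa
  dOK := by decide +kernel
  oOK := by decide +kernel
  count := by decide +kernel
  poly := by decide +kernel
  nhOK := by decide +kernel
  mlt := by decide +kernel

theorem stepsb : checkChainTo E8Data.tab certb.J [] certb.steps = true := by
  simp only [certb, checkChainTo, List.nil_append, List.cons_append, Bool.and_eq_true]
  exact ⟨stepb0, stepb1, stepb2, stepb3, stepb4, stepb5, stepb6, by decide +kernel⟩

theorem okb : certb.OK E8Data.tab forms E8Data.steps where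
  goodK := goodK
  inv := ⟨E8Data.cert.M, by decide +kernel⟩
  chain := E8Data.chainOK
  jOK := by decide +kernel
  stepsOK := stepsb
  dOK := by decide +kernel
  oOK := by decide +kernel
  count := by decide +kernel
  poly := by decide +kernel
  nhOK := by decide +kernel
  mlt := by decide +kernel

theorem cover : Chev.allBelow (fun M => Nat.beq M 0 || certa.O.any (fun e => Nat.beq e.1 M) ||
    certb.O.any (fun e => Nat.beq e.1 M)) (2 ^ E8Data.tab.l) = true := by decide +kernel

theorem card_diag {F : Type*} [Field F] [Fintype F] :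
    Nat.card (E8Data.tab.D.diagonalSubgroup F) = (Fintype.card F - 1) ^ E8Data.tab.l := by
  have h := Chev.Tab.card_diagonal_mul (F := F) E8Data.good E8Data.torOK
  simpa [E8Data.cert] using h

end Cfsg.Agent.ChevOdd.E8
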