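import Cfsg.Agent.Lib.ChevOdd.Count
import Cfsg.Agent.Lib.Lie.OrderF4

/-! Certificates for the classes of involutions of F4 in odd characteristic. -/

set_option autoImplicit false
set_option maxRecDepth 20000

namespace Cfsg.Agent.ChevOdd.F4

open Cfsg.Agent.Chev Cfsg.Agent.ChevOdd

/-- representatives -/
def repsa0 : List Tab.Rep :=
  [⟨[], 0, 555424024, [(true, 1)]⟩,
   ⟨[1], 1, 571743768, [(true, 0)]⟩]

/-- representatives -/
def repsa1 : List Tab.Rep :=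
  [⟨[], 0, 555424024, [(false, 1), (true, 1)]⟩,
   ⟨[2], 1, 555488794, [(true, 2), (true, 0)]⟩,
   ⟨[2, 1], 2, 588455450, [(true, 1), (true, 3)]⟩,
   ⟨[2, 1, 2], 3, 588976416, [(false, 1), (true, 2)]⟩]

/-- representatives -/
def repsa2 : List Tab.Rep :=
  [⟨[], 0, 555424024, [(false, 1), (false, 2), (true, 1)]⟩,
   ⟨[3], 1, 555424279, [(false, 1), (true, 2), (true, 0)]⟩,
   ⟨[3, 2], 2, 555554073, [(true, 3), (true, 1), (false, 2)]⟩,
   ⟨[3, 2, 1], 3, 605167385, [(true, 2), (true, 4), (false, 2)]⟩,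
   ⟨[3, 2, 1, 2], 4, 605753376, [(false, 1), (true, 3), (true, 5)]⟩,
   ⟨[3, 2, 1, 2, 3], 5, 605755663, [(false, 1), (false, 2), (true, 4)]⟩]

/-- coset representatives -/
def hrepsa : List HRep :=
  [⟨[0, 1, 2, 3, 1, 2, 0, 1, 2, 3, 0, 1, 2, 1, 0], 7, 119216408⟩,
   ⟨[0, 1, 2, 1, 0], 1, 169548074⟩,
   ⟨[0, 1, 2, 3, 1, 0], 2, 169552645⟩,
   ⟨[0, 1, 2, 3, 1, 2, 0], 3, 170656793⟩,
   ⟨[], 0, 555424024⟩,
   ⟨[0, 1, 2, 3, 1, 2, 0, 1], 4, 604187929⟩,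
   ⟨[0, 1, 2, 3, 1, 2, 0, 1, 2], 5, 605749806⟩,
   ⟨[0, 1, 2, 3, 1, 2, 0, 1, 2, 3], 6, 605755649⟩]

/-- orbit -/
def orba : List (ℕ × List ℕ) :=
  [(1, [1, 0]),
   (2, []),
   (3, [0])]

/-- certificate -/
def certa : Cert :=
  ⟨2, [1, 2, 3], [(1, repsa0), (2, repsa1), (3, repsa2)], hrepsa, orba, [2, 4, 6, 8], 16⟩

theorem stepa0 : F4Data.tab.checkStep [] [1] repsa0 = true := by decide +kernel

theorem stepa1 : F4Data.tab.checkStep [1] [1, 2] repsa1 = true := by decide +kernel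

theorem stepa2 : F4Data.tab.checkStep [1, 2] [1, 2, 3] repsa2 = true := by decide +kernel

/-- representatives -/
def repsb0 : List Tab.Rep :=
  [⟨[0], 1, 237115672, [(true, 1)]⟩,
   ⟨[], 0, 555424024, [(true, 0)]⟩]

/-- representatives -/
def repsb1 : List Tab.Rep :=
  [⟨[1, 0], 2, 220274200, [(true, 2), (false, 0)]⟩,
   ⟨[], 0, 555424024, [(false, 0), (true, 2)]⟩,
   ⟨[1], 1, 571743768, [(true, 0), (true, 1)]⟩]

/-- representatives -/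
def repsb2 : List Tab.Rep :=
  [⟨[2, 1, 0], 3, 203496986, [(true, 6), (false, 0), (true, 1)]⟩,
   ⟨[2, 1, 0, 2], 4, 203755808, [(true, 7), (true, 2), (true, 0)]⟩,
   ⟨[2, 1, 0, 2, 1], 5, 453650720, [(false, 1), (true, 1), (true, 3)]⟩,
   ⟨[2, 1, 0, 2, 1, 2], 6, 455149102, [(false, 1), (false, 0), (true, 2)]⟩,
   ⟨[], 0, 555424024, [(false, 0), (false, 1), (true, 5)]⟩,
   ⟨[2], 1, 555488794, [(false, 0), (true, 6), (true, 4)]⟩,
   ⟨[2, 1], 2, 588455450, [(true, 0), (true, 5), (true, 7)]⟩,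
   ⟨[2, 1, 2], 3, 588976416, [(true, 1), (false, 1), (true, 6)]⟩]

/-- coset representatives -/
def hrepsb : List HRep :=
  [⟨[3, 2, 1, 2, 0, 1, 2, 3, 2, 1, 2, 0, 1, 2, 3], 1, 555424001⟩,
   ⟨[], 0, 555424024⟩]

/-- orbit -/
def orbb : List (ℕ × List ℕ) :=
  [(4, [3, 1, 2, 0, 1, 2, 3]),
   (5, []),
   (6, [3, 2, 0, 1, 2, 3]),
   (7, [3, 2, 1, 2, 3]),
   (8, [2, 1, 2, 0, 1, 2, 3]),
   (9, [2, 3]),
   (10, [0, 1, 2, 3]),
   (11, [1, 2, 3]),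
   (12, [1, 2, 0, 1, 2, 3]),
   (13, [3]),
   (14, [2, 0, 1, 2, 3]),
   (15, [2, 1, 2, 3])]

/-- certificate -/
def certb : Cert :=
  ⟨5, [0, 1, 2], [(0, repsb0), (1, repsb1), (2, repsb2)], hrepsb, orbb, [2, 2, 4, 6], 10⟩

theorem stepb0 : F4Data.tab.checkStep [] [0] repsb0 = true := by decide +kernel

theorem stepb1 : F4Data.tab.checkStep [0] [0, 1] repsb1 = true := by decide +kernel

theorem stepb2 : F4Data.tab.checkStep [0, 1] [0, 1, 2] repsb2 = true := by decide +kernel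

end Cfsg.Agent.ChevOdd.F4
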