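import Cfsg.Agent.Lib.ChevOdd.Main
import Cfsg.Agent.Lib.ChevOdd.DataF4

/-! The checked certificates of F4. -/

set_option autoImplicit false
set_option maxRecDepth 20000

namespace Cfsg.Agent.ChevOdd.F4

open Cfsg.Lie Cfsg.Agent.Chev Cfsg.Agent.ChevOdd

/-- coefficient forms -/
def forms : List (List ℕ) := [[2, 3, 4, 2], [3, 6, 8, 4], [2, 4, 6, 3], [1, 2, 3, 2]]

theorem goodK : F4Data.tab.GoodK forms := ⟨⟨F4Data.good, by decide +kernel⟩, by decide +kernel⟩

theorem pairs : checkPairs F4Data.tab = true := by decide +kernel

theorem stepsa : checkChainTo F4Data.tab certa.J [] certa.steps = true := by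
  simp only [certa, checkChainTo, List.nil_append, List.cons_append, Bool.and_eq_true]
  exact ⟨stepa0, stepa1, stepa2, by decide +kernel⟩

theorem oka : certa.OK F4Data.tab forms F4Data.steps where
  goodK := goodK
  inv := ⟨F4Data.cert.M, by decide +kernel⟩
  chain := F4Data.chainOK
  jOK := by decide +kernel
  stepsOK := stepsa
  dOK := by decide +kernel
  oOK := by decide +kernel
  count := by decide +kernel
  poly := by decide +kernel
  nhOK := by decide +kernel
  mlt := by decide +kernel

theorem stepsb : checkChainTo F4Data.tab certb.J [] certb.steps = true := by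
  simp only [certb, checkChainTo, List.nil_append, List.cons_append, Bool.and_eq_true]
  exact ⟨stepb0, stepb1, stepb2, by decide +kernel⟩

theorem okb : certb.OK F4Data.tab forms F4Data.steps where
  goodK := goodK
  inv := ⟨F4Data.cert.M, by decide +kernel⟩
  chain := F4Data.chainOK
  jOK := by decide +kernel
  stepsOK := stepsb
  dOK := by decide +kernel
  oOK := by decide +kernel
  count := by decide +kernel
  poly := by decide +kernel
  nhOK := by decide +kernel
  mlt := by decide +kernel

theorem cover : Chev.allBelow (fun M => Nat.beq M 0 || certa.O.any (fun e => Nat.beq e.1 M) ||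
    certb.O.any (fun e => Nat.beq e.1 M)) (2 ^ F4Data.tab.l) = true := by decide +kernel

theorem card_diag {F : Type*} [Field F] [Fintype F] :
    Nat.card (F4Data.tab.D.diagonalSubgroup F) = (Fintype.card F - 1) ^ F4Data.tab.l := by
  have h := Chev.Tab.card_diagonal_mul (F := F) F4Data.good F4Data.torOK
  simpa [F4Data.cert] using h

end Cfsg.Agent.ChevOdd.F4
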