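import Cfsg.Agent.Lib.ChevOdd.Main

/-!
# Two classes of involutions
-/

set_option autoImplicit false

namespace Cfsg.Agent.ChevOdd

open Cfsg.Lie Cfsg.Agent.Chev Cfsg.Agent.Chev.Tab

variable {T : Tab} {K : List (List ℕ)} {F : Type*} [Field F]

theorem sub_one_coprime {q d : ℕ} (hq : 2 ≤ q) (hd : 1 ≤ d) : Nat.Coprime (q ^ d - 1) q := by
  refine Nat.coprime_of_dvd' fun k _ h1 h2 => ?_
  have h3 : k ∣ q ^ d := dvd_trans h2 (dvd_pow_self q (by omega))
  have h4 := Nat.dvd_sub h3 h1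
  rwa [Nat.sub_sub_self (Nat.one_le_pow _ _ (by omega))] at h4

theorem degs_coprime {q : ℕ} (hq : 2 ≤ q) {L : List ℕ} (hL : L.all (Nat.ble 1) = true) :
    Nat.Coprime (L.map fun d => q ^ d - 1).prod q := by
  rw [Nat.coprime_list_prod_left_iff]
  intro n hn
  obtain ⟨d, hd, rfl⟩ := List.mem_map.1 hn
  exact sub_one_coprime hq (Nat.le_of_ble_eq_true (List.all_eq_true.1 hL d hd))

theorem pow_mul_ne {q a b A B : ℕ} (hq : 2 ≤ q) (h : b < a) (hB : B.Coprime q) :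
    q ^ a * A ≠ q ^ b * B := by
  intro e
  have h1 : q ^ (a - b) * A = B := by
    refine mul_left_cancel₀ (pow_ne_zero b (by omega : q ≠ 0)) ?_
    rw [← mul_assoc, ← pow_add, Nat.add_sub_cancel' h.le, e]
  have h2 : q ∣ B := h1 ▸ dvd_mul_of_dvd_left (dvd_pow_self q (by omega)) A
  have h3 : q ∣ 1 := hB ▸ Nat.dvd_gcd h2 dvd_rfl
  rw [Nat.dvd_one] at h3
  omega

/-- Two classes of involutions with their centraliser orders. -/
theorem two_classes [Fintype F] {C₁ C₂ : Cert} {top : List (ℕ × List Rep)} (h₁ : C₁.OK T K top)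
    (h₂ : C₂.OK T K top) (hp : checkPairs T = true) (hodd : Odd (Fintype.card F))
    (hdiag : Nat.card (T.D.diagonalSubgroup F) = (Fintype.card F - 1) ^ T.l)
    (hcov : allBelow (fun M => Nat.beq M 0 || C₁.O.any (fun e => Nat.beq e.1 M) ||
      C₂.O.any (fun e => Nat.beq e.1 M)) (2 ^ T.l) = true)
    (hm₁ : C₁.m ≠ 0) (hm₂ : C₂.m ≠ 0) (hnh : C₁.nh ≠ C₂.nh)
    (hd₁ : C₁.degs.all (Nat.ble 1) = true) (hd₂ : C₂.degs.all (Nat.ble 1) = true) :
    ∃ s t : T.D.group F, orderOf s = 2 ∧ orderOf t = 2 ∧ ¬ IsConj s t ∧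
      (∀ u : T.D.group F, orderOf u = 2 → IsConj u s ∨ IsConj u t) ∧
      Nat.card (Subgroup.centralizer ({s} : Set (T.D.group F))) =
        Fintype.card F ^ C₁.nh * (C₁.degs.map fun d => Fintype.card F ^ d - 1).prod ∧
      Nat.card (Subgroup.centralizer ({t} : Set (T.D.group F))) =
        Fintype.card F ^ C₂.nh * (C₂.degs.map fun d => Fintype.card F ^ d - 1).prod := by
  obtain ⟨s, hs, os, cs⟩ := exists_rep h₁ hm₁ (two_ne hodd) hdiag
  obtain ⟨t, ht, ot, ct⟩ := exists_rep h₂ hm₂ (two_ne hodd) hdiag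
  have hq : 2 ≤ Fintype.card F := Fintype.one_lt_card
  refine ⟨s, t, os, ot, fun hst => ?_, fun u hu => classes h₁ h₂ hp hodd hcov hs ht hu, cs, ct⟩
  have e := card_centralizer_isConj hst
  rw [cs, ct] at e
  rcases Nat.lt_or_gt_of_ne hnh with h | h
  · exact pow_mul_ne hq h (degs_coprime hq hd₁) e.symm
  · exact pow_mul_ne hq h (degs_coprime hq hd₂) e

end Cfsg.Agent.ChevOdd
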