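import Cfsg.Agent.Lib.Lie.ChevBruhat
import Cfsg.Agent.Lib.Lie.ChevTorus
import Cfsg.Agent.Lib.Lie.TwGraph
import Mathlib.FieldTheory.Finite.Basic

/-!
# Involutions in Chevalley groups of odd characteristic: reduction to the torus

An involution is conjugate to an element of `N`; when the torus is freely parametrised by the fundamental
coroots, one can then lower the length of the Weyl group element by a conjugation inside a fundamental
`SL₂`.
-/

set_option autoImplicit false

namespace Cfsg.Agent.ChevOdd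

open Cfsg.Lie Cfsg.Agent.Chev Cfsg.Agent.Chev.Tab

variable {T : Tab} {F : Type*} [Field F]

/-- The torus parametrisation is injective on the coordinates `< l`. -/
def InjT (T : Tab) (F : Type*) [Field F] : Prop :=
  ∀ c d : ℕ → Fˣ, tor T F c = tor T F d → ∀ j < T.l, c j = d j

/-- An integer inverse of the Cartan matrix. -/
def checkInv (T : Tab) (M : ℕ → ℕ → ℤ) : Bool :=
  allBelow (fun j => allBelow (fun j' =>
    sumBelow (fun i => M j i * T.A j' (T.smp i)) T.l == if j = j' then 1 else 0) T.l) T.l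

theorem injT (g : T.Good) {M : ℕ → ℕ → ℤ} (h : checkInv T M = true) : InjT T F := by
  intro c d e j hj
  have key : ∀ c : ℕ → Fˣ, c j = ∏ i ∈ Finset.range T.l, wt T F c (T.smp i) ^ M j i := by
    intro c
    simp only [checkInv, allBelow_eq_true, beq_iff_eq, sumBelow_eq_sum] at h
    simp only [wt, ← Finset.prod_zpow, ← zpow_mul]
    rw [Finset.prod_comm]
    simp only [prod_zpow_sum]
    rw [Finset.prod_eq_single j]
    · rw [Finset.sum_congr rfl fun i _ => mul_comm (T.A j (T.smp i)) (M j i), h j hj j hj, if_pos rfl,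
        zpow_one]
    · intro b hb hne
      rw [Finset.sum_congr rfl fun i _ => mul_comm (T.A b (T.smp i)) (M j i),
        h j hj b (Finset.mem_range.1 hb), if_neg (Ne.symm hne), zpow_zero]
    · exact fun h => absurd (Finset.mem_range.2 hj) h
  rw [key c, key d]
  refine Finset.prod_congr rfl fun i hi => ?_
  have hs := g.smp_lt (Finset.mem_range.1 hi)
  have := congrArg (fun X : GL T.D.Idx F =>
    (X : Matrix T.D.Idx T.D.Idx F) (Sum.inr ⟨T.smp i, by rw [g.nroots_eq]; exact hs⟩)
      (Sum.inr ⟨T.smp i, by rw [g.nroots_eq]; exact hs⟩)) e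
  have h' : wt T F c (T.smp i) = wt T F d (T.smp i) :=
    Units.ext (by simpa [tor_apply, dg_val, dgv] using this)
  rw [h']

/-- Two fundamental roots are joined by an odd Cartan integer or have commuting root groups. -/
def checkPairs (T : Tab) : Bool :=
  allBelow (fun j => allBelow (fun k => Nat.beq j k ||
    Nat.beq ((T.A j (T.smp k)).natAbs % 2) 1 || Nat.beq ((T.A k (T.smp j)).natAbs % 2) 1 ||
    (T.A j (T.smp k) == 0 &&
      (Nat.beq (T.ref k (T.smp j)) (T.smp j) &&
        ((T.cTerms (T.smp j) (T.smp k)).isEmpty && (T.cTerms (T.smp j) (T.neg (T.smp k))).isEmpty &&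
         (T.cTerms (T.neg (T.smp j)) (T.smp k)).isEmpty &&
          (T.cTerms (T.neg (T.smp j)) (T.neg (T.smp k))).isEmpty)))) T.l) T.l

/-- Two orthogonal fundamental roots. -/
structure Orth (T : Tab) (j k : ℕ) : Prop where
  ne : j ≠ k
  cartan : T.A j (T.smp k) = 0
  fixed : T.ref k (T.smp j) = T.smp j
  c1 : T.cTerms (T.smp j) (T.smp k) = []
  c2 : T.cTerms (T.smp j) (T.neg (T.smp k)) = []
  c3 : T.cTerms (T.neg (T.smp j)) (T.smp k) = []
  c4 : T.cTerms (T.neg (T.smp j)) (T.neg (T.smp k)) = []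

theorem orth_of_check (hp : checkPairs T = true) {j k : ℕ} (hj : j < T.l) (hk : k < T.l) (hne : j ≠ k)
    (h1 : ¬ Odd (T.A j (T.smp k))) (h2 : ¬ Odd (T.A k (T.smp j))) : Orth T j k := by
  have h := allBelow_eq_true.1 (allBelow_eq_true.1 hp j hj) k hk
  simp only [Bool.or_eq_true, Bool.and_eq_true, nat_beq, beq_iff_eq, List.isEmpty_iff] at h
  rcases h with ((h | h) | h) | ⟨h, h', ⟨⟨e1, e2⟩, e3⟩, e4⟩
  · exact absurd h hne
  · exact absurd (Int.natAbs_odd.1 (Nat.odd_iff.2 h)) h1
  · exact absurd (Int.natAbs_odd.1 (Nat.odd_iff.2 h)) h2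
  · exact ⟨hne, h, h', e1, e2, e3, e4⟩

/-! ### Conjugation in a fundamental `SL₂` -/

theorem smp_ne_neg (g : T.Good) {j k : ℕ} (hj : j < T.l) (hk : k < T.l) : T.smp k ≠ T.neg (T.smp j) := by
  intro e
  have h1 := g.smp_ge hk
  have h2 := (neg_lt_N_iff (g.smp_lt hj)).2 (g.smp_ge hj)
  rw [← e] at h2
  omega

theorem nG_neg_root (g : T.Good) {i : ℕ} (hi : i < T.l) (t : F) :
    nG g F i * xg g (T.smp i) t * (nG g F i)⁻¹ = xg g (T.neg (T.smp i)) (-t) := by
  rw [nG_conj g hi (g.smp_lt hi), g.ref_smp hi, g.eta_smp hi]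
  congr 1
  push_cast
  ring

theorem hS_pos (g : T.Good) {i : ℕ} (hi : i < T.l) (u : Fˣ) {s : ℕ} (hs : s < T.n) (t : F) :
    hS T F i u * xg g s t * (hS T F i u)⁻¹ = xg g s (((u ^ T.A i s : Fˣ) : F) * t) := by
  rw [hS_eq_tor, tor_xg g _ hs, wt_single g hi]

theorem hS_negroot (g : T.Good) {i : ℕ} (hi : i < T.l) (u : Fˣ) (t : F) :
    hS T F i u * xg g (T.neg (T.smp i)) t * (hS T F i u)⁻¹ =
      xg g (T.neg (T.smp i)) ((u : F)⁻¹ * (u : F)⁻¹ * t) := by
  rw [hS_pos g hi u (neg_lt (g.smp_lt hi)), ((g.sign' (g.smp_lt hi)).1 i hi).2.2.2, A_smp_self g hi]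
  congr 1
  rw [_root_.zpow_neg, show (2 : ℤ) = ((2 : ℕ) : ℤ) from rfl, zpow_natCast, pow_two]
  simp

theorem nG_posroot (g : T.Good) {i : ℕ} (hi : i < T.l) (t : F) :
    nG g F i * xg g (T.smp i) t = xg g (T.neg (T.smp i)) (-t) * nG g F i :=
  mul_inv_eq_iff_eq_mul.1 (nG_neg_root g hi t)

/-- `x_{-p}(c) = x_p(1/c) h(-1/c) n x_p(1/c)`. -/
theorem negroot_eq (g : T.Good) {i : ℕ} (hi : i < T.l) (c : Fˣ) :
    xg g (T.neg (T.smp i)) (c : F) =
      xg g (T.smp i) (c : F)⁻¹ * (hS T F i (-c⁻¹) * nG g F i) * xg g (T.smp i) (c : F)⁻¹ := by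
  rw [← nE_simple g hi (-c⁻¹)]
  simp only [Units.val_neg, Units.val_inv_eq_inv_val, inv_neg, inv_inv]
  rw [← xg_inv]
  group

/-- The commutation of opposite fundamental root elements. -/
theorem posneg (g : T.Good) {i : ℕ} (hi : i < T.l) (b : F) (c l : Fˣ) (h : (l : F) = 1 + b * c) :
    xg g (T.smp i) b * xg g (T.neg (T.smp i)) (c : F) =
      xg g (T.neg (T.smp i)) ((c : F) / l) * hS T F i l * xg g (T.smp i) (b / l) := by
  have hc : (c : F) ≠ 0 := Units.ne_zero _
  have hl : (l : F) ≠ 0 := Units.ne_zero _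
  have e1 := negroot_eq g hi c
  have e2 := negroot_eq g hi (c * l⁻¹)
  have ev : ((c * l⁻¹ : Fˣ) : F) = (c : F) / l := by
    rw [Units.val_mul, Units.val_inv_eq_inv_val, div_eq_mul_inv]
  rw [ev] at e2
  have mid : ∀ u : F, xg g (T.smp i) u * hS T F i l = hS T F i l * xg g (T.smp i) ((l : F)⁻¹ * (l : F)⁻¹ * u) := by
    intro u
    rw [eq_comm, ← mul_inv_eq_iff_eq_mul, hS_pos g hi l (g.smp_lt hi), A_smp_self g hi,
      show (2 : ℤ) = ((2 : ℕ) : ℤ) from rfl, zpow_natCast]
    congr 1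
    push_cast
    field_simp
  calc xg g (T.smp i) b * xg g (T.neg (T.smp i)) (c : F)
      = xg g (T.smp i) (b + (c : F)⁻¹) * (hS T F i (-c⁻¹) * nG g F i) * xg g (T.smp i) (c : F)⁻¹ := by
        rw [e1, ← xg_add]; group
    _ = xg g (T.smp i) ((c : F) / l)⁻¹ * (hS T F i (-(c * l⁻¹)⁻¹) * hS T F i l⁻¹ * nG g F i) *
          xg g (T.smp i) ((l : F)⁻¹ * (l : F)⁻¹ * ((c : F) / l)⁻¹ + b / l) := by
        congr 1
        · congr 1
          · congr 1
            rw [h]
            field_simp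
            ring
          · rw [← hS_mul]
            congr 2
            refine Units.ext ?_
            simp only [Units.val_neg, Units.val_mul, Units.val_inv_eq_inv_val]
            field_simp
        · congr 1
          field_simp
          rw [h]
          ring
    _ = xg g (T.smp i) ((c : F) / l)⁻¹ * (hS T F i (-(c * l⁻¹)⁻¹) * nG g F i) *
          (hS T F i l * xg g (T.smp i) ((l : F)⁻¹ * (l : F)⁻¹ * ((c : F) / l)⁻¹)) * xg g (T.smp i) (b / l) := by
        rw [← xg_add]
        have : hS T F i l⁻¹ * nG g F i = nG g F i * hS T F i l := (nG_hS g hi l).symm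
        simp only [mul_assoc]
        rw [← mul_assoc (hS T F i l⁻¹), this, mul_assoc]
    _ = _ := by
        rw [← mid, e2]; group

theorem group_conj {x : GL T.D.Idx F} {h : GL T.D.Idx F} (hh : h ∈ T.D.group F)
    (H : ∃ k ∈ T.D.group F, ∃ d, k * (h * x * h⁻¹) * k⁻¹ = tor T F d) :
    ∃ k ∈ T.D.group F, ∃ d, k * x * k⁻¹ = tor T F d := by
  obtain ⟨k, hk, d, e⟩ := H
  exact ⟨k * h, mul_mem hk hh, d, by rw [← e]; group⟩

/-- When the parameter of the swap is a square the fundamental reflection can be removed. -/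
theorem remove (g : T.Good) (h2 : (2 : F) ≠ 0) {i : ℕ} (hi : i < T.l) {n : GL T.D.Idx F} (hn : n * n = 1)
    {k : Fˣ} (hk : ∀ t : F, n * xg g (T.smp i) t * n⁻¹ = xg g (T.neg (T.smp i)) ((k : F) * t))
    {b : Fˣ} (hb : k * (b * b) = 1) :
    ∃ h ∈ T.D.group F, h * n * h⁻¹ = hS T F i b * nG g F i * n := by
  have hb0 : (b : F) ≠ 0 := Units.ne_zero _
  have hk0 : (k : F) ≠ 0 := Units.ne_zero _
  have hkb : (k : F) * ((b : F) * b) = 1 := by
    have := congrArg Units.val hb
    simpa only [Units.val_mul, Units.val_one] using this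
  have hni : n⁻¹ = n := inv_eq_of_mul_eq_one_left hn
  obtain ⟨a, ha⟩ : ∃ a : F, a = -(1 / (2 * (b : F))) := ⟨_, rfl⟩
  refine ⟨xg g (T.neg (T.smp i)) a * xg g (T.smp i) (b : F),
    mul_mem (xg_mem_group g _ _) (xg_mem_group g _ _), ?_⟩
  have p1 : n * xg g (T.smp i) (-(b : F)) * n = xg g (T.neg (T.smp i)) (-(b : F)⁻¹) := by
    have := hk (-(b : F))
    rw [hni] at this
    rw [this]
    congr 1
    field_simp
    linear_combination -hkb
  have p2 : n * xg g (T.neg (T.smp i)) (-a) * n = xg g (T.smp i) ((b : F) / 2) := by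
    have e : -a = (k : F) * ((b : F) / 2) := by
      rw [ha]
      field_simp
      linear_combination -hkb
    rw [e, ← hk, hni]
    simp only [mul_assoc, hn, mul_one]
    rw [← mul_assoc n n, hn, one_mul]
  calc xg g (T.neg (T.smp i)) a * xg g (T.smp i) (b : F) * n *
        (xg g (T.neg (T.smp i)) a * xg g (T.smp i) (b : F))⁻¹
      = xg g (T.neg (T.smp i)) a * xg g (T.smp i) (b : F) *
          ((n * xg g (T.smp i) (-(b : F)) * n) * (n * xg g (T.neg (T.smp i)) (-a) * n)) * n⁻¹ := by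
        simp only [mul_inv_rev, xg_inv, mul_assoc]
        rw [← mul_assoc n n, hn, one_mul, hni, hn, mul_one]
    _ = xg g (T.neg (T.smp i)) a * (xg g (T.smp i) (b : F) * xg g (T.neg (T.smp i)) (-(b : F)⁻¹) *
          xg g (T.smp i) (b : F)) * xg g (T.smp i) (-((b : F) / 2)) * n := by
        rw [p1, p2, hni]
        simp only [mul_assoc]
        rw [← mul_assoc (xg g (T.smp i) (b : F)) (xg g (T.smp i) (-((b : F) / 2))), xg_add]
        congr 4
        congr 1
        field_simp
        ring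
    _ = xg g (T.neg (T.smp i)) a * (hS T F i b * (nG g F i * xg g (T.smp i) (-((b : F) / 2)))) * n := by
        rw [nE_simple g hi b]; simp only [mul_assoc]
    _ = xg g (T.neg (T.smp i)) a * (hS T F i b * xg g (T.neg (T.smp i)) ((b : F) / 2) * (hS T F i b)⁻¹) *
          (hS T F i b * nG g F i) * n := by
        rw [nG_posroot g hi, _root_.neg_neg]; group
    _ = _ := by
        rw [hS_negroot g hi, xg_add, ha]
        have : -(1 / (2 * (b : F))) + (b : F)⁻¹ * (b : F)⁻¹ * ((b : F) / 2) = 0 := by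
          field_simp
          ring
        rw [this, xg_zero, one_mul]

/-- When it is not a square the torus part can be changed by the fundamental coroot. -/
theorem shift [Finite F] (g : T.Good) (h2 : (2 : F) ≠ 0) {i : ℕ} (hi : i < T.l) {n : GL T.D.Idx F}
    (hn : n * n = 1) {k : Fˣ}
    (hk : ∀ t : F, n * xg g (T.smp i) t * n⁻¹ = xg g (T.neg (T.smp i)) ((k : F) * t))
    (hns : ∀ y : Fˣ, k * (y * y) ≠ 1) :
    ∃ y : Fˣ, ∃ h ∈ T.D.group F, h * n * h⁻¹ = hS T F i (k * (y * y)) * n := by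
  have hk0 : (k : F) ≠ 0 := Units.ne_zero _
  have := Fintype.ofFinite F
  obtain ⟨b, y, hby⟩ : ∃ b y : F, b ^ 2 + y ^ 2 = (k : F)⁻¹ := by
    have hr : ringChar F ≠ 2 := fun e => h2 (by
      have := ringChar.Nat.cast_ringChar (R := F)
      rw [e, Nat.cast_ofNat] at this
      exact this)
    obtain ⟨a, b, hab⟩ := FiniteField.exists_root_sum_quadratic (f := (Polynomial.X ^ 2 : Polynomial F))
      (g := Polynomial.X ^ 2 - Polynomial.C (k : F)⁻¹) (Polynomial.degree_X_pow 2)
      (Polynomial.degree_X_pow_sub_C (by decide) _) (FiniteField.odd_card_of_char_ne_two hr)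
    refine ⟨a, b, ?_⟩
    simp at hab
    linear_combination hab
  have hne : ∀ b y : F, b ^ 2 + y ^ 2 = (k : F)⁻¹ → y ≠ 0 := by
    intro b y e hy
    subst hy
    have hb : b ≠ 0 := by
      rintro rfl
      simp at e
      exact hk0 e.symm
    refine hns (Units.mk0 b hb) (Units.ext ?_)
    simp only [Units.val_mul, Units.val_mk0, Units.val_one]
    field_simp at e
    linear_combination e
  have hy : y ≠ 0 := hne b y hby
  have hb : b ≠ 0 := hne y b (by rw [add_comm, hby])
  obtain ⟨l, hl⟩ : ∃ l : Fˣ, l = k * (Units.mk0 y hy * Units.mk0 y hy) := ⟨_, rfl⟩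
  obtain ⟨c, hc⟩ : ∃ c : Fˣ, c = -(k * Units.mk0 b hb) := ⟨_, rfl⟩
  have hlv : (l : F) = 1 + b * c := by
    rw [hl, hc]
    simp only [Units.val_mul, Units.val_mk0, Units.val_neg]
    field_simp at hby
    linear_combination hby
  have hl0 : (l : F) ≠ 0 := Units.ne_zero _
  refine ⟨Units.mk0 y hy, xg g (T.neg (T.smp i)) (-((c : F) / l)) * xg g (T.smp i) b,
    mul_mem (xg_mem_group g _ _) (xg_mem_group g _ _), ?_⟩
  rw [← hl]
  have hni : n⁻¹ = n := inv_eq_of_mul_eq_one_left hn
  have p1 : n * xg g (T.smp i) (-b) * n = xg g (T.neg (T.smp i)) (c : F) := by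
    have := hk (-b)
    rw [hni] at this
    rw [this, hc]
    congr 1
    simp
  have p2 : n * xg g (T.neg (T.smp i)) ((c : F) / l) * n = xg g (T.smp i) (-(b / l)) := by
    have e : (c : F) / l = (k : F) * (-(b / l)) := by
      rw [hc]; simp; ring
    rw [e, ← hk, hni]
    simp only [mul_assoc, hn, mul_one]
    rw [← mul_assoc n n, hn, one_mul]
  calc xg g (T.neg (T.smp i)) (-((c : F) / l)) * xg g (T.smp i) b * n *
        (xg g (T.neg (T.smp i)) (-((c : F) / l)) * xg g (T.smp i) b)⁻¹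
      = xg g (T.neg (T.smp i)) (-((c : F) / l)) * xg g (T.smp i) b *
          ((n * xg g (T.smp i) (-b) * n) * (n * xg g (T.neg (T.smp i)) ((c : F) / l) * n)) * n := by
        simp only [mul_inv_rev, xg_inv, _root_.neg_neg, mul_assoc]
        rw [← mul_assoc n n, hn, one_mul, mul_one]
    _ = xg g (T.neg (T.smp i)) (-((c : F) / l)) *
          (xg g (T.smp i) b * xg g (T.neg (T.smp i)) (c : F)) * xg g (T.smp i) (-(b / l)) * n := by
        rw [p1, p2]; simp only [mul_assoc]
    _ = _ := by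
        rw [posneg g hi b c l hlv, ← xg_inv, ← xg_inv]; group

end Cfsg.Agent.ChevOdd
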